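import Cfsg.Agent.H609.TH.Frat
import Cfsg.Agent.H609.TH.Expl
import Cfsg.Agent.OrdDiv.Table
import Cfsg.Agent.H537.CopSC
import Cfsg.Agent.H998.SpHN

/-!
# S3938, row `HN` (helper315, task 5132): the proper subgroups with elements of order `19`

`r = 19`: the simple groups at the top are `L2(19)`, `U3(8)` (`J1` is excluded: `6 ∤ 9`), so no proper subgroup has an order
divisible by `19 · 11`.
-/

set_option autoImplicit false

namespace Cfsg.Agent.H315.SpHN

open Subgroup Cfsg Cfsg.Agent.OrdDiv Cfsg.Agent.H257.El Cfsg.Agent.H609.TH Cfsg.Agent.H424.Spr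

/-- the factorization -/
def lH : List (ℕ × ℕ) := [(2, 14), (3, 6), (5, 6), (7, 1), (11, 1), (19, 1)]

theorem surv_eq : surv 273030912000000 lH 19 [] = [Grp.psl 2 19, Grp.psu 3 8, Grp.j1] := by decide +kernel

theorem chk : chkN 273030912000000 lH 19 = true := by decide +kernel

theorem ok : okAll lH 19 = true := by decide +kernel

theorem ord_psl : ordN (Grp.psl 2 19) = 3420 := by decide +kernel

theorem ord_psu : ordN (Grp.psu 3 8) = 5515776 := by decide +kernel

theorem ord_j1 : ordN Grp.j1 = 175560 := by decide +kernel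

theorem card_HN : Nat.card Cfsg.Spor.HN = 273030912000000 := Cfsg.Agent.KFacts.HN.Classes.card_HN

theorem sc19 : Cfsg.Agent.H537.Cop.SC 19 Cfsg.Spor.HN := fun _ hy => Cfsg.Agent.H998.SpHN.hn_cent19 hy

/-- **No proper subgroup has an order divisible by `19 · 11`.** -/
theorem top_of (known : Cfsg.Agent.H257.El.Known.{0}) {K : Subgroup Cfsg.Spor.HN} (h19 : 19 ∣ Nat.card K)
    (h11 : 11 ∣ Nat.card K) : K = ⊤ := by
  have hfin : Finite Cfsg.Spor.HN := Cfsg.Agent.H845.HNNineteen.finite_HN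
  by_contra hK
  obtain ⟨hv, -, hrn, h2, hne⟩ := of_chkN chk
  have hr : Nat.Prime 19 := by norm_num
  have hfree : Free 19 Cfsg.Spor.HN := free_of_sc card_HN hv hr sc19 ok
  have hF : Fact (Nat.Prime 19) := ⟨hr⟩
  obtain ⟨s, hs⟩ := exists_prime_orderOf_dvd_card' (G := K) 19 h19
  have hsT : orderOf (s : Cfsg.Spor.HN) = 19 := by rw [Subgroup.orderOf_coe, hs]
  have h2' : ¬ 19 ^ 2 ∣ Nat.card Cfsg.Spor.HN := by rw [card_HN]; exact h2
  have hne' : Nat.card Cfsg.Spor.HN ≠ 19 := by rw [card_HN]; exact hne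
  rcases cases table known card_HN hv hr h2 hfree hsT hK s.2 with h1 | ⟨N, hN⟩
  · have h3 := (h11.trans (card_dvd_of_le h1))
    rw [(card_norm_mod hr h2' hne' (sc19 _ hsT)).1, card_HN] at h3
    exact absurd h3 (by norm_num)
  · obtain ⟨hd, he⟩ := hN.index_mul_dvd hr h2' hne' sc19 hsT
    have h3 := h11.trans hd
    obtain ⟨g, hg, -, hgc⟩ := hN.real
    rw [surv_eq] at hg
    simp only [List.mem_cons, List.not_mem_nil, or_false] at hg
    rw [card_HN] at h3 he
    rcases hg with rfl | rfl | rfl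
    · rw [hgc, ord_psl] at h3
      exact absurd h3 (by norm_num)
    · rw [hgc, ord_psu] at h3
      exact absurd h3 (by norm_num)
    · rw [hgc, ord_j1] at he
      have h4 := dvd_of_mul_left_dvd he
      exact absurd h4 (by norm_num)

theorem f19 : Fact (Nat.Prime 19) := ⟨by norm_num⟩

theorem f11 : Fact (Nat.Prime 11) := ⟨by norm_num⟩

/-- the criterion -/
theorem goodI_of (known : Cfsg.Agent.H257.El.Known.{0}) {x g : Cfsg.Spor.HN} (hx : x ^ 19 = 1) (hx1 : x ≠ 1)
    (hxg : (x * g) ^ 11 = 1) (hxg1 : x * g ≠ 1) : GoodI g := by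
  have := f19
  have := f11
  refine ⟨x, top_of known ?_ ?_⟩
  · have h1 : orderOf x = 19 := orderOf_eq_prime hx hx1
    rw [← h1]
    exact Subgroup.orderOf_dvd_natCard _ (subset_closure (Set.mem_insert _ _))
  · have h1 : orderOf (x * g) = 11 := orderOf_eq_prime hxg hxg1
    rw [← h1]
    exact Subgroup.orderOf_dvd_natCard _ (mul_mem (subset_closure (Set.mem_insert _ _))
      (subset_closure (Set.mem_insert_of_mem _ rfl)))

/-- the criterion, roles exchanged -/
theorem goodI_of' (known : Cfsg.Agent.H257.El.Known.{0}) {x g : Cfsg.Spor.HN} (hx : x ^ 11 = 1) (hx1 : x ≠ 1)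
    (hxg : (x * g) ^ 19 = 1) (hxg1 : x * g ≠ 1) : GoodI g := by
  have := f19
  have := f11
  refine ⟨x, top_of known ?_ ?_⟩
  · have h1 : orderOf (x * g) = 19 := orderOf_eq_prime hxg hxg1
    rw [← h1]
    exact Subgroup.orderOf_dvd_natCard _ (mul_mem (subset_closure (Set.mem_insert _ _))
      (subset_closure (Set.mem_insert_of_mem _ rfl)))
  · have h1 : orderOf x = 11 := orderOf_eq_prime hx hx1
    rw [← h1]
    exact Subgroup.orderOf_dvd_natCard _ (subset_closure (Set.mem_insert _ _))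

/-- elements of order `19` -/
theorem goodI_19 (known : Cfsg.Agent.H257.El.Known.{0}) {g : Cfsg.Spor.HN} (hg : orderOf g = 19) : GoodI g := by
  have hfin : Finite Cfsg.Spor.HN := Cfsg.Agent.H845.HNNineteen.finite_HN
  have hF : Fact (Nat.Prime 11) := ⟨by norm_num⟩
  obtain ⟨x, hx⟩ := exists_prime_orderOf_dvd_card' (G := Cfsg.Spor.HN) 11 (by rw [card_HN]; norm_num)
  refine ⟨x, top_of known ?_ ?_⟩
  · rw [← hg]
    exact Subgroup.orderOf_dvd_natCard _ (subset_closure (Set.mem_insert_of_mem _ rfl))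
  · rw [← hx]
    exact Subgroup.orderOf_dvd_natCard _ (subset_closure (Set.mem_insert _ _))

/-- elements of order `11` -/
theorem goodI_11 (known : Cfsg.Agent.H257.El.Known.{0}) {g : Cfsg.Spor.HN} (hg : orderOf g = 11) : GoodI g := by
  have hfin : Finite Cfsg.Spor.HN := Cfsg.Agent.H845.HNNineteen.finite_HN
  have hF : Fact (Nat.Prime 19) := ⟨by norm_num⟩
  obtain ⟨x, hx⟩ := exists_prime_orderOf_dvd_card' (G := Cfsg.Spor.HN) 19 (by rw [card_HN]; norm_num)
  refine ⟨x, top_of known ?_ ?_⟩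
  · rw [← hx]
    exact Subgroup.orderOf_dvd_natCard _ (subset_closure (Set.mem_insert _ _))
  · rw [← hg]
    exact Subgroup.orderOf_dvd_natCard _ (subset_closure (Set.mem_insert_of_mem _ rfl))

end Cfsg.Agent.H315.SpHN
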