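import Cfsg.Agent.H315.Spr.HNT0
import Cfsg.Agent.H680.Split.HNTa
import Cfsg.Agent.H687.EqD.EvFb

/-!
# Elements of order 3, part 1 (helper315, for S3938, row `HN`)
-/

set_option autoImplicit false
set_option maxRecDepth 100000

namespace Cfsg.Agent.H315.SpHN.Ta

open Cfsg.Agent.HN Cfsg.Agent.Lib.PackMatMul Cfsg.Agent.HN.RepData Cfsg.Agent.H285.HN3 Cfsg.Agent.H315.SpHN.T3
open Cfsg.Agent.HN.A12Step (L20)

/-- the program -/
def own : List (ℕ × List ℕ) := [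
  (46, [43, 45, 50, 47, 46, 44]),
  (0, [5, 1, 1, 11]),
  (0, [0]),
  (0, [0]),
  (0, [0]),
  (0, [0]),
  (0, [3, 4]),
  (54, [57, 6, 56, 55, 11, 7, 17]),
  (0, [0]),
  (0, [0]),
  (0, [0]),
  (0, [0]),
  (0, [3, 4]),
  (58, [60, 12, 61, 59, 23]),
  (0, [0]),
  (0, [0]),
  (0, [0]),
  (0, [0]),
  (0, [3, 4]),
  (64, [18, 65, 30]),
  (0, [0]),
  (0, [0]),
  (0, [0]),
  (0, [0]),
  (0, [3, 4]),
  (69, [70, 24, 71, 68, 36, 35]),
  (0, [0]),
  (0, [0]),
  (0, [0]),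
  (0, [0]),
  (0, [3, 4]),
  (77, [74, 78, 30, 79, 75, 76, 42, 42, 41]),
  (0, [0]),
  (0, [0]),
  (0, [0]),
  (0, [0]),
  (0, [3, 4]),
  (86, [36, 87, 60]),
  (0, [0]),
  (0, [0]),
  (0, [0]),
  (0, [0]),
  (0, [3, 4]),
  (86, [42, 87, 43]),
  (0, [0]),
  (0, [0]),
  (0, [0]),
  (0, [0]),
  (0, [3, 4]),
  (94, [48, 95, 58]),
  (0, [0]),
  (0, [0]),
  (0, [0]),
  (0, [0]),
  (0, [3, 4]),
  (100, [102, 54, 103, 101, 64, 78]),
  (0, [0]),
  (0, [0]),
  (0, [0]),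
  (0, [0]),
  (0, [3, 4]),
  (110, [60, 111, 70, 84, 84]),
  (0, [0]),
  (0, [0]),
  (0, [0]),
  (0, [0]),
  (0, [3, 4]),
  (71, [77, 71, 77, 71, 77]),
  (68, [78, 68, 78, 68, 78])]

/-- the program with the prefix -/
def pr : List (ℕ × List ℕ) := pre ++ own

/-- the equalities -/
def es : List (ℕ × ℕ) := [(62, 91), (56, 91), (50, 91), (44, 91), (38, 91), (32, 91), (26, 91), (20, 91), (14, 91), (8, 91), (2, 91)]

/-- the inequalities -/
def ns : List (ℕ × ℕ) := [(1, 91), (0, 91)]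

theorem chk : checkS C pr es ns L20 = true :=
  Cfsg.Agent.H154.Split.checkS_of_segs 28 Cfsg.Agent.H680.Split.HNTa.segs rfl (by decide +kernel)
    Cfsg.Agent.H680.Split.HNTa.chain

theorem snd : (∀ q ∈ es, S3 pr q.1 = S3 pr q.2) ∧ (∀ q ∈ ns, S3 pr q.1 ≠ S3 pr q.2) := sound3 chk (by decide)

theorem g (j : ℕ) : S3 pr (69 + j) = R (62 + j) := pre3 own j

theorem gW : S3 pr 80 = W := g 11
theorem gA : S3 pr 73 = A := g 4
theorem gB : S3 pr 78 = B := g 9
theorem gC : S3 pr 69 = C₁ := g 0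
theorem gD : S3 pr 92 = D := g 23
theorem gF : S3 pr 79 = F := g 10
theorem gx : S3 pr 112 = Rep.x := (g 43).trans (genR 0)
theorem gxi : S3 pr 113 = Rep.x⁻¹ := (g 44).trans (genR 1)
theorem gy : S3 pr 114 = Rep.y := (g 45).trans (genR 2)
theorem gyi : S3 pr 115 = Rep.y⁻¹ := (g 46).trans (genR 3)
theorem gz : S3 pr 116 = Rep.z := (g 47).trans (genR 4)
theorem gzi : S3 pr 117 = Rep.z⁻¹ := (g 48).trans (genR 5)
theorem gt : S3 pr 118 = Rep.t := (g 49).trans (genR 6)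
theorem gti : S3 pr 119 = Rep.t⁻¹ := (g 50).trans (genR 7)
theorem g1 : S3 pr 91 = 1 := (g 22).trans one_eq

/-- the element of order `11` -/
noncomputable def u : Cfsg.Spor.HN := Rep.y⁻¹ * (Rep.x * (Rep.y * (Rep.t⁻¹ * (Rep.z * (Rep.y⁻¹ * (Rep.x⁻¹))))))

theorem u_eq : S3 pr 68 = u := by
  have h := step3 (p := pr) (i := 68) (w := [46, 43, 45, 50, 47, 46, 44]) (by decide) (by rfl)
  simp only [evF, mul_one] at h
  rw [h]
  show S3 pr 115 * (S3 pr 112 * (S3 pr 114 * (S3 pr 119 * (S3 pr 116 * (S3 pr 115 * (S3 pr 113)))))) = _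
  rw [gyi, gx, gy, gti, gz, gxi, u]
theorem v_ACCF : S3 pr 67 = u * (A * (C₁ * (C₁ * (F)))) := by
  have h := step3 (p := pr) (i := 67) (w := [0, 5, 1, 1, 11]) (by decide) (by rfl)
  simp only [evF, mul_one] at h
  rw [h]
  show S3 pr 68 * (S3 pr 73 * (S3 pr 69 * (S3 pr 69 * (S3 pr 79)))) = _
  rw [u_eq, gA, gC, gF]
theorem s2_ACCF : S3 pr 66 = S3 pr 67 * S3 pr 67 := by
  have h := step3 (p := pr) (i := 66) (w := [0, 0]) (by decide) (by rfl)
  simp only [evF, mul_one] at h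
  rw [h]
theorem s4_ACCF : S3 pr 65 = S3 pr 66 * S3 pr 66 := by
  have h := step3 (p := pr) (i := 65) (w := [0, 0]) (by decide) (by rfl)
  simp only [evF, mul_one] at h
  rw [h]
theorem s8_ACCF : S3 pr 64 = S3 pr 65 * S3 pr 65 := by
  have h := step3 (p := pr) (i := 64) (w := [0, 0]) (by decide) (by rfl)
  simp only [evF, mul_one] at h
  rw [h]
theorem s16_ACCF : S3 pr 63 = S3 pr 64 * S3 pr 64 := by
  have h := step3 (p := pr) (i := 63) (w := [0, 0]) (by decide) (by rfl)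
  simp only [evF, mul_one] at h
  rw [h]
theorem r_ACCF : (u * (A * (C₁ * (C₁ * (F))))) ^ 19 = 1 := by
  have h := step3 (p := pr) (i := 62) (w := [0, 3, 4]) (by decide) (by rfl)
  simp only [evF, mul_one] at h
  have h1 : S3 pr 62 = S3 pr 63 * (S3 pr 66 * S3 pr 67) := h
  have h2 : S3 pr 62 = S3 pr 91 := snd.1 (62, 91) (by decide)
  rw [h1, g1, s16_ACCF, s8_ACCF, s4_ACCF, s2_ACCF, v_ACCF] at h2
  simpa only [pow_succ, pow_zero, one_mul, mul_assoc] using h2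

theorem v_ACF : S3 pr 61 = Rep.z * (Rep.t⁻¹ * (u * (Rep.t * (Rep.z⁻¹ * (A * (C₁ * (F))))))) := by
  have h := step3 (p := pr) (i := 61) (w := [54, 57, 6, 56, 55, 11, 7, 17]) (by decide) (by rfl)
  simp only [evF, mul_one] at h
  rw [h]
  show S3 pr 116 * (S3 pr 119 * (S3 pr 68 * (S3 pr 118 * (S3 pr 117 * (S3 pr 73 * (S3 pr 69 * (S3 pr 79))))))) = _
  rw [gz, gti, u_eq, gt, gzi, gA, gC, gF]
theorem s2_ACF : S3 pr 60 = S3 pr 61 * S3 pr 61 := by
  have h := step3 (p := pr) (i := 60) (w := [0, 0]) (by decide) (by rfl)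
  simp only [evF, mul_one] at h
  rw [h]
theorem s4_ACF : S3 pr 59 = S3 pr 60 * S3 pr 60 := by
  have h := step3 (p := pr) (i := 59) (w := [0, 0]) (by decide) (by rfl)
  simp only [evF, mul_one] at h
  rw [h]
theorem s8_ACF : S3 pr 58 = S3 pr 59 * S3 pr 59 := by
  have h := step3 (p := pr) (i := 58) (w := [0, 0]) (by decide) (by rfl)
  simp only [evF, mul_one] at h
  rw [h]
theorem s16_ACF : S3 pr 57 = S3 pr 58 * S3 pr 58 := by
  have h := step3 (p := pr) (i := 57) (w := [0, 0]) (by decide) (by rfl)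
  simp only [evF, mul_one] at h
  rw [h]
theorem r_ACF : (Rep.z * (Rep.t⁻¹ * (u * (Rep.t * (Rep.z⁻¹ * (A * (C₁ * (F)))))))) ^ 19 = 1 := by
  have h := step3 (p := pr) (i := 56) (w := [0, 3, 4]) (by decide) (by rfl)
  simp only [evF, mul_one] at h
  have h1 : S3 pr 56 = S3 pr 57 * (S3 pr 60 * S3 pr 61) := h
  have h2 : S3 pr 56 = S3 pr 91 := snd.1 (56, 91) (by decide)
  rw [h1, g1, s16_ACF, s8_ACF, s4_ACF, s2_ACF, v_ACF] at h2
  simpa only [pow_succ, pow_zero, one_mul, mul_assoc] using h2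

theorem v_F : S3 pr 55 = Rep.y * (Rep.z * (u * (Rep.z⁻¹ * (Rep.y⁻¹ * (F))))) := by
  have h := step3 (p := pr) (i := 55) (w := [58, 60, 12, 61, 59, 23]) (by decide) (by rfl)
  simp only [evF, mul_one] at h
  rw [h]
  show S3 pr 114 * (S3 pr 116 * (S3 pr 68 * (S3 pr 117 * (S3 pr 115 * (S3 pr 79))))) = _
  rw [gy, gz, u_eq, gzi, gyi, gF]
theorem s2_F : S3 pr 54 = S3 pr 55 * S3 pr 55 := by
  have h := step3 (p := pr) (i := 54) (w := [0, 0]) (by decide) (by rfl)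
  simp only [evF, mul_one] at h
  rw [h]
theorem s4_F : S3 pr 53 = S3 pr 54 * S3 pr 54 := by
  have h := step3 (p := pr) (i := 53) (w := [0, 0]) (by decide) (by rfl)
  simp only [evF, mul_one] at h
  rw [h]
theorem s8_F : S3 pr 52 = S3 pr 53 * S3 pr 53 := by
  have h := step3 (p := pr) (i := 52) (w := [0, 0]) (by decide) (by rfl)
  simp only [evF, mul_one] at h
  rw [h]
theorem s16_F : S3 pr 51 = S3 pr 52 * S3 pr 52 := by
  have h := step3 (p := pr) (i := 51) (w := [0, 0]) (by decide) (by rfl)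
  simp only [evF, mul_one] at h
  rw [h]
theorem r_F : (Rep.y * (Rep.z * (u * (Rep.z⁻¹ * (Rep.y⁻¹ * (F)))))) ^ 19 = 1 := by
  have h := step3 (p := pr) (i := 50) (w := [0, 3, 4]) (by decide) (by rfl)
  simp only [evF, mul_one] at h
  have h1 : S3 pr 50 = S3 pr 51 * (S3 pr 54 * S3 pr 55) := h
  have h2 : S3 pr 50 = S3 pr 91 := snd.1 (50, 91) (by decide)
  rw [h1, g1, s16_F, s8_F, s4_F, s2_F, v_F] at h2
  simpa only [pow_succ, pow_zero, one_mul, mul_assoc] using h2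

theorem v_W : S3 pr 49 = Rep.y * (u * (Rep.y⁻¹ * (W))) := by
  have h := step3 (p := pr) (i := 49) (w := [64, 18, 65, 30]) (by decide) (by rfl)
  simp only [evF, mul_one] at h
  rw [h]
  show S3 pr 114 * (S3 pr 68 * (S3 pr 115 * (S3 pr 80))) = _
  rw [gy, u_eq, gyi, gW]
theorem s2_W : S3 pr 48 = S3 pr 49 * S3 pr 49 := by
  have h := step3 (p := pr) (i := 48) (w := [0, 0]) (by decide) (by rfl)
  simp only [evF, mul_one] at h
  rw [h]
theorem s4_W : S3 pr 47 = S3 pr 48 * S3 pr 48 := by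
  have h := step3 (p := pr) (i := 47) (w := [0, 0]) (by decide) (by rfl)
  simp only [evF, mul_one] at h
  rw [h]
theorem s8_W : S3 pr 46 = S3 pr 47 * S3 pr 47 := by
  have h := step3 (p := pr) (i := 46) (w := [0, 0]) (by decide) (by rfl)
  simp only [evF, mul_one] at h
  rw [h]
theorem s16_W : S3 pr 45 = S3 pr 46 * S3 pr 46 := by
  have h := step3 (p := pr) (i := 45) (w := [0, 0]) (by decide) (by rfl)
  simp only [evF, mul_one] at h
  rw [h]
theorem r_W : (Rep.y * (u * (Rep.y⁻¹ * (W)))) ^ 19 = 1 := by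
  have h := step3 (p := pr) (i := 44) (w := [0, 3, 4]) (by decide) (by rfl)
  simp only [evF, mul_one] at h
  have h1 : S3 pr 44 = S3 pr 45 * (S3 pr 48 * S3 pr 49) := h
  have h2 : S3 pr 44 = S3 pr 91 := snd.1 (44, 91) (by decide)
  rw [h1, g1, s16_W, s8_W, s4_W, s2_W, v_W] at h2
  simpa only [pow_succ, pow_zero, one_mul, mul_assoc] using h2

theorem v_WF : S3 pr 43 = Rep.x⁻¹ * (Rep.y * (u * (Rep.y⁻¹ * (Rep.x * (W * (F)))))) := by
  have h := step3 (p := pr) (i := 43) (w := [69, 70, 24, 71, 68, 36, 35]) (by decide) (by rfl)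
  simp only [evF, mul_one] at h
  rw [h]
  show S3 pr 113 * (S3 pr 114 * (S3 pr 68 * (S3 pr 115 * (S3 pr 112 * (S3 pr 80 * (S3 pr 79)))))) = _
  rw [gxi, gy, u_eq, gyi, gx, gW, gF]
theorem s2_WF : S3 pr 42 = S3 pr 43 * S3 pr 43 := by
  have h := step3 (p := pr) (i := 42) (w := [0, 0]) (by decide) (by rfl)
  simp only [evF, mul_one] at h
  rw [h]
theorem s4_WF : S3 pr 41 = S3 pr 42 * S3 pr 42 := by
  have h := step3 (p := pr) (i := 41) (w := [0, 0]) (by decide) (by rfl)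
  simp only [evF, mul_one] at h
  rw [h]
theorem s8_WF : S3 pr 40 = S3 pr 41 * S3 pr 41 := by
  have h := step3 (p := pr) (i := 40) (w := [0, 0]) (by decide) (by rfl)
  simp only [evF, mul_one] at h
  rw [h]
theorem s16_WF : S3 pr 39 = S3 pr 40 * S3 pr 40 := by
  have h := step3 (p := pr) (i := 39) (w := [0, 0]) (by decide) (by rfl)
  simp only [evF, mul_one] at h
  rw [h]
theorem r_WF : (Rep.x⁻¹ * (Rep.y * (u * (Rep.y⁻¹ * (Rep.x * (W * (F))))))) ^ 19 = 1 := by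
  have h := step3 (p := pr) (i := 38) (w := [0, 3, 4]) (by decide) (by rfl)
  simp only [evF, mul_one] at h
  have h1 : S3 pr 38 = S3 pr 39 * (S3 pr 42 * S3 pr 43) := h
  have h2 : S3 pr 38 = S3 pr 91 := snd.1 (38, 91) (by decide)
  rw [h1, g1, s16_WF, s8_WF, s4_WF, s2_WF, v_WF] at h2
  simpa only [pow_succ, pow_zero, one_mul, mul_assoc] using h2

theorem v_WWF : S3 pr 37 = Rep.y⁻¹ * (Rep.x * (Rep.z * (u * (Rep.z⁻¹ * (Rep.x⁻¹ * (Rep.y * (W * (W * (F))))))))) := by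
  have h := step3 (p := pr) (i := 37) (w := [77, 74, 78, 30, 79, 75, 76, 42, 42, 41]) (by decide) (by rfl)
  simp only [evF, mul_one] at h
  rw [h]
  show S3 pr 115 * (S3 pr 112 * (S3 pr 116 * (S3 pr 68 * (S3 pr 117 * (S3 pr 113 * (S3 pr 114 * (S3 pr 80 * (S3 pr 80 * (S3 pr 79))))))))) = _
  rw [gyi, gx, gz, u_eq, gzi, gxi, gy, gW, gF]
theorem s2_WWF : S3 pr 36 = S3 pr 37 * S3 pr 37 := by
  have h := step3 (p := pr) (i := 36) (w := [0, 0]) (by decide) (by rfl)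
  simp only [evF, mul_one] at h
  rw [h]
theorem s4_WWF : S3 pr 35 = S3 pr 36 * S3 pr 36 := by
  have h := step3 (p := pr) (i := 35) (w := [0, 0]) (by decide) (by rfl)
  simp only [evF, mul_one] at h
  rw [h]
theorem s8_WWF : S3 pr 34 = S3 pr 35 * S3 pr 35 := by
  have h := step3 (p := pr) (i := 34) (w := [0, 0]) (by decide) (by rfl)
  simp only [evF, mul_one] at h
  rw [h]
theorem s16_WWF : S3 pr 33 = S3 pr 34 * S3 pr 34 := by
  have h := step3 (p := pr) (i := 33) (w := [0, 0]) (by decide) (by rfl)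
  simp only [evF, mul_one] at h
  rw [h]
theorem r_WWF : (Rep.y⁻¹ * (Rep.x * (Rep.z * (u * (Rep.z⁻¹ * (Rep.x⁻¹ * (Rep.y * (W * (W * (F)))))))))) ^ 19 = 1 := by
  have h := step3 (p := pr) (i := 32) (w := [0, 3, 4]) (by decide) (by rfl)
  simp only [evF, mul_one] at h
  have h1 : S3 pr 32 = S3 pr 33 * (S3 pr 36 * S3 pr 37) := h
  have h2 : S3 pr 32 = S3 pr 91 := snd.1 (32, 91) (by decide)
  rw [h1, g1, s16_WWF, s8_WWF, s4_WWF, s2_WWF, v_WWF] at h2
  simpa only [pow_succ, pow_zero, one_mul, mul_assoc] using h2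

theorem v_v0001 : S3 pr 31 = Rep.t * (u * (Rep.t⁻¹ * (D))) := by
  have h := step3 (p := pr) (i := 31) (w := [86, 36, 87, 60]) (by decide) (by rfl)
  simp only [evF, mul_one] at h
  rw [h]
  show S3 pr 118 * (S3 pr 68 * (S3 pr 119 * (S3 pr 92))) = _
  rw [gt, u_eq, gti, gD]
theorem s2_v0001 : S3 pr 30 = S3 pr 31 * S3 pr 31 := by
  have h := step3 (p := pr) (i := 30) (w := [0, 0]) (by decide) (by rfl)
  simp only [evF, mul_one] at h
  rw [h]
theorem s4_v0001 : S3 pr 29 = S3 pr 30 * S3 pr 30 := by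
  have h := step3 (p := pr) (i := 29) (w := [0, 0]) (by decide) (by rfl)
  simp only [evF, mul_one] at h
  rw [h]
theorem s8_v0001 : S3 pr 28 = S3 pr 29 * S3 pr 29 := by
  have h := step3 (p := pr) (i := 28) (w := [0, 0]) (by decide) (by rfl)
  simp only [evF, mul_one] at h
  rw [h]
theorem s16_v0001 : S3 pr 27 = S3 pr 28 * S3 pr 28 := by
  have h := step3 (p := pr) (i := 27) (w := [0, 0]) (by decide) (by rfl)
  simp only [evF, mul_one] at h
  rw [h]
theorem r_v0001 : (Rep.t * (u * (Rep.t⁻¹ * (D)))) ^ 19 = 1 := by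
  have h := step3 (p := pr) (i := 26) (w := [0, 3, 4]) (by decide) (by rfl)
  simp only [evF, mul_one] at h
  have h1 : S3 pr 26 = S3 pr 27 * (S3 pr 30 * S3 pr 31) := h
  have h2 : S3 pr 26 = S3 pr 91 := snd.1 (26, 91) (by decide)
  rw [h1, g1, s16_v0001, s8_v0001, s4_v0001, s2_v0001, v_v0001] at h2
  simpa only [pow_succ, pow_zero, one_mul, mul_assoc] using h2

theorem v_v0010 : S3 pr 25 = Rep.x * (u * (Rep.x⁻¹ * (C₁))) := by
  have h := step3 (p := pr) (i := 25) (w := [86, 42, 87, 43]) (by decide) (by rfl)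
  simp only [evF, mul_one] at h
  rw [h]
  show S3 pr 112 * (S3 pr 68 * (S3 pr 113 * (S3 pr 69))) = _
  rw [gx, u_eq, gxi, gC]
theorem s2_v0010 : S3 pr 24 = S3 pr 25 * S3 pr 25 := by
  have h := step3 (p := pr) (i := 24) (w := [0, 0]) (by decide) (by rfl)
  simp only [evF, mul_one] at h
  rw [h]
theorem s4_v0010 : S3 pr 23 = S3 pr 24 * S3 pr 24 := by
  have h := step3 (p := pr) (i := 23) (w := [0, 0]) (by decide) (by rfl)
  simp only [evF, mul_one] at h
  rw [h]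
theorem s8_v0010 : S3 pr 22 = S3 pr 23 * S3 pr 23 := by
  have h := step3 (p := pr) (i := 22) (w := [0, 0]) (by decide) (by rfl)
  simp only [evF, mul_one] at h
  rw [h]
theorem s16_v0010 : S3 pr 21 = S3 pr 22 * S3 pr 22 := by
  have h := step3 (p := pr) (i := 21) (w := [0, 0]) (by decide) (by rfl)
  simp only [evF, mul_one] at h
  rw [h]
theorem r_v0010 : (Rep.x * (u * (Rep.x⁻¹ * (C₁)))) ^ 19 = 1 := by
  have h := step3 (p := pr) (i := 20) (w := [0, 3, 4]) (by decide) (by rfl)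
  simp only [evF, mul_one] at h
  have h1 : S3 pr 20 = S3 pr 21 * (S3 pr 24 * S3 pr 25) := h
  have h2 : S3 pr 20 = S3 pr 91 := snd.1 (20, 91) (by decide)
  rw [h1, g1, s16_v0010, s8_v0010, s4_v0010, s2_v0010, v_v0010] at h2
  simpa only [pow_succ, pow_zero, one_mul, mul_assoc] using h2

theorem v_v0100 : S3 pr 19 = Rep.y * (u * (Rep.y⁻¹ * (B))) := by
  have h := step3 (p := pr) (i := 19) (w := [94, 48, 95, 58]) (by decide) (by rfl)
  simp only [evF, mul_one] at h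
  rw [h]
  show S3 pr 114 * (S3 pr 68 * (S3 pr 115 * (S3 pr 78))) = _
  rw [gy, u_eq, gyi, gB]
theorem s2_v0100 : S3 pr 18 = S3 pr 19 * S3 pr 19 := by
  have h := step3 (p := pr) (i := 18) (w := [0, 0]) (by decide) (by rfl)
  simp only [evF, mul_one] at h
  rw [h]
theorem s4_v0100 : S3 pr 17 = S3 pr 18 * S3 pr 18 := by
  have h := step3 (p := pr) (i := 17) (w := [0, 0]) (by decide) (by rfl)
  simp only [evF, mul_one] at h
  rw [h]
theorem s8_v0100 : S3 pr 16 = S3 pr 17 * S3 pr 17 := by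
  have h := step3 (p := pr) (i := 16) (w := [0, 0]) (by decide) (by rfl)
  simp only [evF, mul_one] at h
  rw [h]
theorem s16_v0100 : S3 pr 15 = S3 pr 16 * S3 pr 16 := by
  have h := step3 (p := pr) (i := 15) (w := [0, 0]) (by decide) (by rfl)
  simp only [evF, mul_one] at h
  rw [h]
theorem r_v0100 : (Rep.y * (u * (Rep.y⁻¹ * (B)))) ^ 19 = 1 := by
  have h := step3 (p := pr) (i := 14) (w := [0, 3, 4]) (by decide) (by rfl)
  simp only [evF, mul_one] at h
  have h1 : S3 pr 14 = S3 pr 15 * (S3 pr 18 * S3 pr 19) := h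
  have h2 : S3 pr 14 = S3 pr 91 := snd.1 (14, 91) (by decide)
  rw [h1, g1, s16_v0100, s8_v0100, s4_v0100, s2_v0100, v_v0100] at h2
  simpa only [pow_succ, pow_zero, one_mul, mul_assoc] using h2

theorem v_v0101 : S3 pr 13 = Rep.y * (Rep.z * (u * (Rep.z⁻¹ * (Rep.y⁻¹ * (B * (D)))))) := by
  have h := step3 (p := pr) (i := 13) (w := [100, 102, 54, 103, 101, 64, 78]) (by decide) (by rfl)
  simp only [evF, mul_one] at h
  rw [h]
  show S3 pr 114 * (S3 pr 116 * (S3 pr 68 * (S3 pr 117 * (S3 pr 115 * (S3 pr 78 * (S3 pr 92)))))) = _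
  rw [gy, gz, u_eq, gzi, gyi, gB, gD]
theorem s2_v0101 : S3 pr 12 = S3 pr 13 * S3 pr 13 := by
  have h := step3 (p := pr) (i := 12) (w := [0, 0]) (by decide) (by rfl)
  simp only [evF, mul_one] at h
  rw [h]
theorem s4_v0101 : S3 pr 11 = S3 pr 12 * S3 pr 12 := by
  have h := step3 (p := pr) (i := 11) (w := [0, 0]) (by decide) (by rfl)
  simp only [evF, mul_one] at h
  rw [h]
theorem s8_v0101 : S3 pr 10 = S3 pr 11 * S3 pr 11 := by
  have h := step3 (p := pr) (i := 10) (w := [0, 0]) (by decide) (by rfl)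
  simp only [evF, mul_one] at h
  rw [h]
theorem s16_v0101 : S3 pr 9 = S3 pr 10 * S3 pr 10 := by
  have h := step3 (p := pr) (i := 9) (w := [0, 0]) (by decide) (by rfl)
  simp only [evF, mul_one] at h
  rw [h]
theorem r_v0101 : (Rep.y * (Rep.z * (u * (Rep.z⁻¹ * (Rep.y⁻¹ * (B * (D))))))) ^ 19 = 1 := by
  have h := step3 (p := pr) (i := 8) (w := [0, 3, 4]) (by decide) (by rfl)
  simp only [evF, mul_one] at h
  have h1 : S3 pr 8 = S3 pr 9 * (S3 pr 12 * S3 pr 13) := h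
  have h2 : S3 pr 8 = S3 pr 91 := snd.1 (8, 91) (by decide)
  rw [h1, g1, s16_v0101, s8_v0101, s4_v0101, s2_v0101, v_v0101] at h2
  simpa only [pow_succ, pow_zero, one_mul, mul_assoc] using h2

theorem v_v0102 : S3 pr 7 = Rep.t * (u * (Rep.t⁻¹ * (B * (D * (D))))) := by
  have h := step3 (p := pr) (i := 7) (w := [110, 60, 111, 70, 84, 84]) (by decide) (by rfl)
  simp only [evF, mul_one] at h
  rw [h]
  show S3 pr 118 * (S3 pr 68 * (S3 pr 119 * (S3 pr 78 * (S3 pr 92 * (S3 pr 92))))) = _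
  rw [gt, u_eq, gti, gB, gD]
theorem s2_v0102 : S3 pr 6 = S3 pr 7 * S3 pr 7 := by
  have h := step3 (p := pr) (i := 6) (w := [0, 0]) (by decide) (by rfl)
  simp only [evF, mul_one] at h
  rw [h]
theorem s4_v0102 : S3 pr 5 = S3 pr 6 * S3 pr 6 := by
  have h := step3 (p := pr) (i := 5) (w := [0, 0]) (by decide) (by rfl)
  simp only [evF, mul_one] at h
  rw [h]
theorem s8_v0102 : S3 pr 4 = S3 pr 5 * S3 pr 5 := by
  have h := step3 (p := pr) (i := 4) (w := [0, 0]) (by decide) (by rfl)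
  simp only [evF, mul_one] at h
  rw [h]
theorem s16_v0102 : S3 pr 3 = S3 pr 4 * S3 pr 4 := by
  have h := step3 (p := pr) (i := 3) (w := [0, 0]) (by decide) (by rfl)
  simp only [evF, mul_one] at h
  rw [h]
theorem r_v0102 : (Rep.t * (u * (Rep.t⁻¹ * (B * (D * (D)))))) ^ 19 = 1 := by
  have h := step3 (p := pr) (i := 2) (w := [0, 3, 4]) (by decide) (by rfl)
  simp only [evF, mul_one] at h
  have h1 : S3 pr 2 = S3 pr 3 * (S3 pr 6 * S3 pr 7) := h
  have h2 : S3 pr 2 = S3 pr 91 := snd.1 (2, 91) (by decide)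
  rw [h1, g1, s16_v0102, s8_v0102, s4_v0102, s2_v0102, v_v0102] at h2
  simpa only [pow_succ, pow_zero, one_mul, mul_assoc] using h2

theorem n_AF : S3 pr 1 = A * (F * (A * (F * (A * (F))))) := by
  have h := step3 (p := pr) (i := 1) (w := [71, 77, 71, 77, 71, 77]) (by decide) (by rfl)
  simp only [evF, mul_one] at h
  rw [h]
  show S3 pr 73 * (S3 pr 79 * (S3 pr 73 * (S3 pr 79 * (S3 pr 73 * (S3 pr 79))))) = _
  rw [gA, gF]
theorem ne_AF : (A * (F)) ^ 3 ≠ 1 := by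
  intro h
  refine snd.2 (1, 91) (by decide) ?_
  show S3 pr 1 = S3 pr 91
  rw [n_AF, g1, ← h]
  simp only [pow_succ, pow_zero, one_mul, mul_assoc]

theorem n_CF : S3 pr 0 = C₁ * (F * (C₁ * (F * (C₁ * (F))))) := by
  have h := step3 (p := pr) (i := 0) (w := [68, 78, 68, 78, 68, 78]) (by decide) (by rfl)
  simp only [evF, mul_one] at h
  rw [h]
  show S3 pr 69 * (S3 pr 79 * (S3 pr 69 * (S3 pr 79 * (S3 pr 69 * (S3 pr 79))))) = _
  rw [gC, gF]
theorem ne_CF : (C₁ * (F)) ^ 3 ≠ 1 := by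
  intro h
  refine snd.2 (0, 91) (by decide) ?_
  show S3 pr 0 = S3 pr 91
  rw [n_CF, g1, ← h]
  simp only [pow_succ, pow_zero, one_mul, mul_assoc]

end Cfsg.Agent.H315.SpHN.Ta
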