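import Cfsg.Agent.H315.Spr.HNT0
import Cfsg.Agent.H680.Split.HNTb
import Cfsg.Agent.H687.EqD.EvFb

/-!
# Elements of order 3, part 2 (helper315, for S3938, row `HN`)
-/

set_option autoImplicit false
set_option maxRecDepth 100000

namespace Cfsg.Agent.H315.SpHN.Tb

open Cfsg.Agent.HN Cfsg.Agent.Lib.PackMatMul Cfsg.Agent.HN.RepData Cfsg.Agent.H285.HN3 Cfsg.Agent.H315.SpHN.T3
open Cfsg.Agent.HN.A12Step (L20)

/-- the program -/
def own : List (ℕ × List ℕ) := [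
  (46, [43, 45, 50, 47, 46, 44]),
  (48, [50, 0, 51, 49, 10, 1]),
  (0, [0]),
  (0, [0]),
  (0, [0]),
  (0, [0]),
  (0, [3, 4]),
  (50, [54, 6, 55, 51, 16, 7, 7]),
  (0, [0]),
  (0, [0]),
  (0, [0]),
  (0, [0]),
  (0, [3, 4]),
  (59, [12, 58, 17]),
  (0, [0]),
  (0, [0]),
  (0, [0]),
  (0, [0]),
  (0, [3, 4]),
  (68, [66, 18, 67, 69, 23, 42]),
  (0, [0]),
  (0, [0]),
  (0, [0]),
  (0, [0]),
  (0, [3, 4]),
  (72, [24, 73, 29, 48, 48]),
  (0, [0]),
  (0, [0]),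
  (0, [0]),
  (0, [0]),
  (0, [3, 4]),
  (78, [30, 79, 35, 31]),
  (0, [0]),
  (0, [0]),
  (0, [0]),
  (0, [0]),
  (0, [3, 4]),
  (82, [36, 83, 41, 37, 60]),
  (0, [0]),
  (0, [0]),
  (0, [0]),
  (0, [0]),
  (0, [3, 4]),
  (86, [86, 42, 87, 87, 47, 43, 66, 66]),
  (0, [0]),
  (0, [0]),
  (0, [0]),
  (0, [0]),
  (0, [3, 4]),
  (98, [48, 99, 53, 49, 49]),
  (0, [0]),
  (0, [0]),
  (0, [0]),
  (0, [0]),
  (0, [3, 4]),
  (98, [102, 54, 103, 99, 59, 55, 55, 78]),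
  (0, [0]),
  (0, [0]),
  (0, [0]),
  (0, [0]),
  (0, [3, 4]),
  (107, [60, 106, 65, 70, 61, 61]),
  (0, [0]),
  (0, [0]),
  (0, [0]),
  (0, [0]),
  (0, [3, 4])]

/-- the program with the prefix -/
def pr : List (ℕ × List ℕ) := pre ++ own

/-- the equalities -/
def es : List (ℕ × ℕ) := [(60, 89), (54, 89), (48, 89), (42, 89), (36, 89), (30, 89), (24, 89), (18, 89), (12, 89), (6, 89), (0, 89)]

/-- the inequalities -/
def ns : List (ℕ × ℕ) := []

theorem chk : checkS C pr es ns L20 = true :=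
  Cfsg.Agent.H154.Split.checkS_of_segs 28 Cfsg.Agent.H680.Split.HNTb.segs rfl (by decide +kernel)
    Cfsg.Agent.H680.Split.HNTb.chain

theorem snd : (∀ q ∈ es, S3 pr q.1 = S3 pr q.2) ∧ (∀ q ∈ ns, S3 pr q.1 ≠ S3 pr q.2) := sound3 chk (by decide)

theorem g (j : ℕ) : S3 pr (67 + j) = R (62 + j) := pre3 own j

theorem gW : S3 pr 78 = W := g 11
theorem gA : S3 pr 71 = A := g 4
theorem gB : S3 pr 76 = B := g 9
theorem gC : S3 pr 67 = C₁ := g 0
theorem gD : S3 pr 90 = D := g 23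
theorem gF : S3 pr 77 = F := g 10
theorem gx : S3 pr 110 = Rep.x := (g 43).trans (genR 0)
theorem gxi : S3 pr 111 = Rep.x⁻¹ := (g 44).trans (genR 1)
theorem gy : S3 pr 112 = Rep.y := (g 45).trans (genR 2)
theorem gyi : S3 pr 113 = Rep.y⁻¹ := (g 46).trans (genR 3)
theorem gz : S3 pr 114 = Rep.z := (g 47).trans (genR 4)
theorem gzi : S3 pr 115 = Rep.z⁻¹ := (g 48).trans (genR 5)
theorem gt : S3 pr 116 = Rep.t := (g 49).trans (genR 6)
theorem gti : S3 pr 117 = Rep.t⁻¹ := (g 50).trans (genR 7)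
theorem g1 : S3 pr 89 = 1 := (g 22).trans one_eq

/-- the element of order `11` -/
noncomputable def u : Cfsg.Spor.HN := Rep.y⁻¹ * (Rep.x * (Rep.y * (Rep.t⁻¹ * (Rep.z * (Rep.y⁻¹ * (Rep.x⁻¹))))))

theorem u_eq : S3 pr 66 = u := by
  have h := step3 (p := pr) (i := 66) (w := [46, 43, 45, 50, 47, 46, 44]) (by decide) (by rfl)
  simp only [evF, mul_one] at h
  rw [h]
  show S3 pr 113 * (S3 pr 110 * (S3 pr 112 * (S3 pr 117 * (S3 pr 114 * (S3 pr 113 * (S3 pr 111)))))) = _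
  rw [gyi, gx, gy, gti, gz, gxi, u]
theorem v_v0110 : S3 pr 65 = Rep.z * (Rep.t * (u * (Rep.t⁻¹ * (Rep.z⁻¹ * (B * (C₁)))))) := by
  have h := step3 (p := pr) (i := 65) (w := [48, 50, 0, 51, 49, 10, 1]) (by decide) (by rfl)
  simp only [evF, mul_one] at h
  rw [h]
  show S3 pr 114 * (S3 pr 116 * (S3 pr 66 * (S3 pr 117 * (S3 pr 115 * (S3 pr 76 * (S3 pr 67)))))) = _
  rw [gz, gt, u_eq, gti, gzi, gB, gC]
theorem s2_v0110 : S3 pr 64 = S3 pr 65 * S3 pr 65 := by
  have h := step3 (p := pr) (i := 64) (w := [0, 0]) (by decide) (by rfl)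
  simp only [evF, mul_one] at h
  rw [h]
theorem s4_v0110 : S3 pr 63 = S3 pr 64 * S3 pr 64 := by
  have h := step3 (p := pr) (i := 63) (w := [0, 0]) (by decide) (by rfl)
  simp only [evF, mul_one] at h
  rw [h]
theorem s8_v0110 : S3 pr 62 = S3 pr 63 * S3 pr 63 := by
  have h := step3 (p := pr) (i := 62) (w := [0, 0]) (by decide) (by rfl)
  simp only [evF, mul_one] at h
  rw [h]
theorem s16_v0110 : S3 pr 61 = S3 pr 62 * S3 pr 62 := by
  have h := step3 (p := pr) (i := 61) (w := [0, 0]) (by decide) (by rfl)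
  simp only [evF, mul_one] at h
  rw [h]
theorem r_v0110 : (Rep.z * (Rep.t * (u * (Rep.t⁻¹ * (Rep.z⁻¹ * (B * (C₁))))))) ^ 19 = 1 := by
  have h := step3 (p := pr) (i := 60) (w := [0, 3, 4]) (by decide) (by rfl)
  simp only [evF, mul_one] at h
  have h1 : S3 pr 60 = S3 pr 61 * (S3 pr 64 * S3 pr 65) := h
  have h2 : S3 pr 60 = S3 pr 89 := snd.1 (60, 89) (by decide)
  rw [h1, g1, s16_v0110, s8_v0110, s4_v0110, s2_v0110, v_v0110] at h2
  simpa only [pow_succ, pow_zero, one_mul, mul_assoc] using h2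

theorem v_v0120 : S3 pr 59 = Rep.x * (Rep.z * (u * (Rep.z⁻¹ * (Rep.x⁻¹ * (B * (C₁ * (C₁))))))) := by
  have h := step3 (p := pr) (i := 59) (w := [50, 54, 6, 55, 51, 16, 7, 7]) (by decide) (by rfl)
  simp only [evF, mul_one] at h
  rw [h]
  show S3 pr 110 * (S3 pr 114 * (S3 pr 66 * (S3 pr 115 * (S3 pr 111 * (S3 pr 76 * (S3 pr 67 * (S3 pr 67))))))) = _
  rw [gx, gz, u_eq, gzi, gxi, gB, gC]
theorem s2_v0120 : S3 pr 58 = S3 pr 59 * S3 pr 59 := by
  have h := step3 (p := pr) (i := 58) (w := [0, 0]) (by decide) (by rfl)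
  simp only [evF, mul_one] at h
  rw [h]
theorem s4_v0120 : S3 pr 57 = S3 pr 58 * S3 pr 58 := by
  have h := step3 (p := pr) (i := 57) (w := [0, 0]) (by decide) (by rfl)
  simp only [evF, mul_one] at h
  rw [h]
theorem s8_v0120 : S3 pr 56 = S3 pr 57 * S3 pr 57 := by
  have h := step3 (p := pr) (i := 56) (w := [0, 0]) (by decide) (by rfl)
  simp only [evF, mul_one] at h
  rw [h]
theorem s16_v0120 : S3 pr 55 = S3 pr 56 * S3 pr 56 := by
  have h := step3 (p := pr) (i := 55) (w := [0, 0]) (by decide) (by rfl)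
  simp only [evF, mul_one] at h
  rw [h]
theorem r_v0120 : (Rep.x * (Rep.z * (u * (Rep.z⁻¹ * (Rep.x⁻¹ * (B * (C₁ * (C₁)))))))) ^ 19 = 1 := by
  have h := step3 (p := pr) (i := 54) (w := [0, 3, 4]) (by decide) (by rfl)
  simp only [evF, mul_one] at h
  have h1 : S3 pr 54 = S3 pr 55 * (S3 pr 58 * S3 pr 59) := h
  have h2 : S3 pr 54 = S3 pr 89 := snd.1 (54, 89) (by decide)
  rw [h1, g1, s16_v0120, s8_v0120, s4_v0120, s2_v0120, v_v0120] at h2
  simpa only [pow_succ, pow_zero, one_mul, mul_assoc] using h2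

theorem v_v1000 : S3 pr 53 = Rep.y⁻¹ * (u * (Rep.y * (A))) := by
  have h := step3 (p := pr) (i := 53) (w := [59, 12, 58, 17]) (by decide) (by rfl)
  simp only [evF, mul_one] at h
  rw [h]
  show S3 pr 113 * (S3 pr 66 * (S3 pr 112 * (S3 pr 71))) = _
  rw [gyi, u_eq, gy, gA]
theorem s2_v1000 : S3 pr 52 = S3 pr 53 * S3 pr 53 := by
  have h := step3 (p := pr) (i := 52) (w := [0, 0]) (by decide) (by rfl)
  simp only [evF, mul_one] at h
  rw [h]
theorem s4_v1000 : S3 pr 51 = S3 pr 52 * S3 pr 52 := by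
  have h := step3 (p := pr) (i := 51) (w := [0, 0]) (by decide) (by rfl)
  simp only [evF, mul_one] at h
  rw [h]
theorem s8_v1000 : S3 pr 50 = S3 pr 51 * S3 pr 51 := by
  have h := step3 (p := pr) (i := 50) (w := [0, 0]) (by decide) (by rfl)
  simp only [evF, mul_one] at h
  rw [h]
theorem s16_v1000 : S3 pr 49 = S3 pr 50 * S3 pr 50 := by
  have h := step3 (p := pr) (i := 49) (w := [0, 0]) (by decide) (by rfl)
  simp only [evF, mul_one] at h
  rw [h]
theorem r_v1000 : (Rep.y⁻¹ * (u * (Rep.y * (A)))) ^ 19 = 1 := by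
  have h := step3 (p := pr) (i := 48) (w := [0, 3, 4]) (by decide) (by rfl)
  simp only [evF, mul_one] at h
  have h1 : S3 pr 48 = S3 pr 49 * (S3 pr 52 * S3 pr 53) := h
  have h2 : S3 pr 48 = S3 pr 89 := snd.1 (48, 89) (by decide)
  rw [h1, g1, s16_v1000, s8_v1000, s4_v1000, s2_v1000, v_v1000] at h2
  simpa only [pow_succ, pow_zero, one_mul, mul_assoc] using h2

theorem v_v1001 : S3 pr 47 = Rep.t * (Rep.z * (u * (Rep.z⁻¹ * (Rep.t⁻¹ * (A * (D)))))) := by
  have h := step3 (p := pr) (i := 47) (w := [68, 66, 18, 67, 69, 23, 42]) (by decide) (by rfl)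
  simp only [evF, mul_one] at h
  rw [h]
  show S3 pr 116 * (S3 pr 114 * (S3 pr 66 * (S3 pr 115 * (S3 pr 117 * (S3 pr 71 * (S3 pr 90)))))) = _
  rw [gt, gz, u_eq, gzi, gti, gA, gD]
theorem s2_v1001 : S3 pr 46 = S3 pr 47 * S3 pr 47 := by
  have h := step3 (p := pr) (i := 46) (w := [0, 0]) (by decide) (by rfl)
  simp only [evF, mul_one] at h
  rw [h]
theorem s4_v1001 : S3 pr 45 = S3 pr 46 * S3 pr 46 := by
  have h := step3 (p := pr) (i := 45) (w := [0, 0]) (by decide) (by rfl)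
  simp only [evF, mul_one] at h
  rw [h]
theorem s8_v1001 : S3 pr 44 = S3 pr 45 * S3 pr 45 := by
  have h := step3 (p := pr) (i := 44) (w := [0, 0]) (by decide) (by rfl)
  simp only [evF, mul_one] at h
  rw [h]
theorem s16_v1001 : S3 pr 43 = S3 pr 44 * S3 pr 44 := by
  have h := step3 (p := pr) (i := 43) (w := [0, 0]) (by decide) (by rfl)
  simp only [evF, mul_one] at h
  rw [h]
theorem r_v1001 : (Rep.t * (Rep.z * (u * (Rep.z⁻¹ * (Rep.t⁻¹ * (A * (D))))))) ^ 19 = 1 := by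
  have h := step3 (p := pr) (i := 42) (w := [0, 3, 4]) (by decide) (by rfl)
  simp only [evF, mul_one] at h
  have h1 : S3 pr 42 = S3 pr 43 * (S3 pr 46 * S3 pr 47) := h
  have h2 : S3 pr 42 = S3 pr 89 := snd.1 (42, 89) (by decide)
  rw [h1, g1, s16_v1001, s8_v1001, s4_v1001, s2_v1001, v_v1001] at h2
  simpa only [pow_succ, pow_zero, one_mul, mul_assoc] using h2

theorem v_v1002 : S3 pr 41 = Rep.z * (u * (Rep.z⁻¹ * (A * (D * (D))))) := by
  have h := step3 (p := pr) (i := 41) (w := [72, 24, 73, 29, 48, 48]) (by decide) (by rfl)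
  simp only [evF, mul_one] at h
  rw [h]
  show S3 pr 114 * (S3 pr 66 * (S3 pr 115 * (S3 pr 71 * (S3 pr 90 * (S3 pr 90))))) = _
  rw [gz, u_eq, gzi, gA, gD]
theorem s2_v1002 : S3 pr 40 = S3 pr 41 * S3 pr 41 := by
  have h := step3 (p := pr) (i := 40) (w := [0, 0]) (by decide) (by rfl)
  simp only [evF, mul_one] at h
  rw [h]
theorem s4_v1002 : S3 pr 39 = S3 pr 40 * S3 pr 40 := by
  have h := step3 (p := pr) (i := 39) (w := [0, 0]) (by decide) (by rfl)
  simp only [evF, mul_one] at h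
  rw [h]
theorem s8_v1002 : S3 pr 38 = S3 pr 39 * S3 pr 39 := by
  have h := step3 (p := pr) (i := 38) (w := [0, 0]) (by decide) (by rfl)
  simp only [evF, mul_one] at h
  rw [h]
theorem s16_v1002 : S3 pr 37 = S3 pr 38 * S3 pr 38 := by
  have h := step3 (p := pr) (i := 37) (w := [0, 0]) (by decide) (by rfl)
  simp only [evF, mul_one] at h
  rw [h]
theorem r_v1002 : (Rep.z * (u * (Rep.z⁻¹ * (A * (D * (D)))))) ^ 19 = 1 := by
  have h := step3 (p := pr) (i := 36) (w := [0, 3, 4]) (by decide) (by rfl)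
  simp only [evF, mul_one] at h
  have h1 : S3 pr 36 = S3 pr 37 * (S3 pr 40 * S3 pr 41) := h
  have h2 : S3 pr 36 = S3 pr 89 := snd.1 (36, 89) (by decide)
  rw [h1, g1, s16_v1002, s8_v1002, s4_v1002, s2_v1002, v_v1002] at h2
  simpa only [pow_succ, pow_zero, one_mul, mul_assoc] using h2

theorem v_v1010 : S3 pr 35 = Rep.z * (u * (Rep.z⁻¹ * (A * (C₁)))) := by
  have h := step3 (p := pr) (i := 35) (w := [78, 30, 79, 35, 31]) (by decide) (by rfl)
  simp only [evF, mul_one] at h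
  rw [h]
  show S3 pr 114 * (S3 pr 66 * (S3 pr 115 * (S3 pr 71 * (S3 pr 67)))) = _
  rw [gz, u_eq, gzi, gA, gC]
theorem s2_v1010 : S3 pr 34 = S3 pr 35 * S3 pr 35 := by
  have h := step3 (p := pr) (i := 34) (w := [0, 0]) (by decide) (by rfl)
  simp only [evF, mul_one] at h
  rw [h]
theorem s4_v1010 : S3 pr 33 = S3 pr 34 * S3 pr 34 := by
  have h := step3 (p := pr) (i := 33) (w := [0, 0]) (by decide) (by rfl)
  simp only [evF, mul_one] at h
  rw [h]
theorem s8_v1010 : S3 pr 32 = S3 pr 33 * S3 pr 33 := by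
  have h := step3 (p := pr) (i := 32) (w := [0, 0]) (by decide) (by rfl)
  simp only [evF, mul_one] at h
  rw [h]
theorem s16_v1010 : S3 pr 31 = S3 pr 32 * S3 pr 32 := by
  have h := step3 (p := pr) (i := 31) (w := [0, 0]) (by decide) (by rfl)
  simp only [evF, mul_one] at h
  rw [h]
theorem r_v1010 : (Rep.z * (u * (Rep.z⁻¹ * (A * (C₁))))) ^ 19 = 1 := by
  have h := step3 (p := pr) (i := 30) (w := [0, 3, 4]) (by decide) (by rfl)
  simp only [evF, mul_one] at h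
  have h1 : S3 pr 30 = S3 pr 31 * (S3 pr 34 * S3 pr 35) := h
  have h2 : S3 pr 30 = S3 pr 89 := snd.1 (30, 89) (by decide)
  rw [h1, g1, s16_v1010, s8_v1010, s4_v1010, s2_v1010, v_v1010] at h2
  simpa only [pow_succ, pow_zero, one_mul, mul_assoc] using h2

theorem v_v1011 : S3 pr 29 = Rep.y * (u * (Rep.y⁻¹ * (A * (C₁ * (D))))) := by
  have h := step3 (p := pr) (i := 29) (w := [82, 36, 83, 41, 37, 60]) (by decide) (by rfl)
  simp only [evF, mul_one] at h
  rw [h]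
  show S3 pr 112 * (S3 pr 66 * (S3 pr 113 * (S3 pr 71 * (S3 pr 67 * (S3 pr 90))))) = _
  rw [gy, u_eq, gyi, gA, gC, gD]
theorem s2_v1011 : S3 pr 28 = S3 pr 29 * S3 pr 29 := by
  have h := step3 (p := pr) (i := 28) (w := [0, 0]) (by decide) (by rfl)
  simp only [evF, mul_one] at h
  rw [h]
theorem s4_v1011 : S3 pr 27 = S3 pr 28 * S3 pr 28 := by
  have h := step3 (p := pr) (i := 27) (w := [0, 0]) (by decide) (by rfl)
  simp only [evF, mul_one] at h
  rw [h]
theorem s8_v1011 : S3 pr 26 = S3 pr 27 * S3 pr 27 := by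
  have h := step3 (p := pr) (i := 26) (w := [0, 0]) (by decide) (by rfl)
  simp only [evF, mul_one] at h
  rw [h]
theorem s16_v1011 : S3 pr 25 = S3 pr 26 * S3 pr 26 := by
  have h := step3 (p := pr) (i := 25) (w := [0, 0]) (by decide) (by rfl)
  simp only [evF, mul_one] at h
  rw [h]
theorem r_v1011 : (Rep.y * (u * (Rep.y⁻¹ * (A * (C₁ * (D)))))) ^ 19 = 1 := by
  have h := step3 (p := pr) (i := 24) (w := [0, 3, 4]) (by decide) (by rfl)
  simp only [evF, mul_one] at h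
  have h1 : S3 pr 24 = S3 pr 25 * (S3 pr 28 * S3 pr 29) := h
  have h2 : S3 pr 24 = S3 pr 89 := snd.1 (24, 89) (by decide)
  rw [h1, g1, s16_v1011, s8_v1011, s4_v1011, s2_v1011, v_v1011] at h2
  simpa only [pow_succ, pow_zero, one_mul, mul_assoc] using h2

theorem v_v1012 : S3 pr 23 = Rep.x * (Rep.x * (u * (Rep.x⁻¹ * (Rep.x⁻¹ * (A * (C₁ * (D * (D)))))))) := by
  have h := step3 (p := pr) (i := 23) (w := [86, 86, 42, 87, 87, 47, 43, 66, 66]) (by decide) (by rfl)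
  simp only [evF, mul_one] at h
  rw [h]
  show S3 pr 110 * (S3 pr 110 * (S3 pr 66 * (S3 pr 111 * (S3 pr 111 * (S3 pr 71 * (S3 pr 67 * (S3 pr 90 * (S3 pr 90)))))))) = _
  rw [gx, u_eq, gxi, gA, gC, gD]
theorem s2_v1012 : S3 pr 22 = S3 pr 23 * S3 pr 23 := by
  have h := step3 (p := pr) (i := 22) (w := [0, 0]) (by decide) (by rfl)
  simp only [evF, mul_one] at h
  rw [h]
theorem s4_v1012 : S3 pr 21 = S3 pr 22 * S3 pr 22 := by
  have h := step3 (p := pr) (i := 21) (w := [0, 0]) (by decide) (by rfl)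
  simp only [evF, mul_one] at h
  rw [h]
theorem s8_v1012 : S3 pr 20 = S3 pr 21 * S3 pr 21 := by
  have h := step3 (p := pr) (i := 20) (w := [0, 0]) (by decide) (by rfl)
  simp only [evF, mul_one] at h
  rw [h]
theorem s16_v1012 : S3 pr 19 = S3 pr 20 * S3 pr 20 := by
  have h := step3 (p := pr) (i := 19) (w := [0, 0]) (by decide) (by rfl)
  simp only [evF, mul_one] at h
  rw [h]
theorem r_v1012 : (Rep.x * (Rep.x * (u * (Rep.x⁻¹ * (Rep.x⁻¹ * (A * (C₁ * (D * (D))))))))) ^ 19 = 1 := by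
  have h := step3 (p := pr) (i := 18) (w := [0, 3, 4]) (by decide) (by rfl)
  simp only [evF, mul_one] at h
  have h1 : S3 pr 18 = S3 pr 19 * (S3 pr 22 * S3 pr 23) := h
  have h2 : S3 pr 18 = S3 pr 89 := snd.1 (18, 89) (by decide)
  rw [h1, g1, s16_v1012, s8_v1012, s4_v1012, s2_v1012, v_v1012] at h2
  simpa only [pow_succ, pow_zero, one_mul, mul_assoc] using h2

theorem v_v1020 : S3 pr 17 = Rep.t * (u * (Rep.t⁻¹ * (A * (C₁ * (C₁))))) := by
  have h := step3 (p := pr) (i := 17) (w := [98, 48, 99, 53, 49, 49]) (by decide) (by rfl)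
  simp only [evF, mul_one] at h
  rw [h]
  show S3 pr 116 * (S3 pr 66 * (S3 pr 117 * (S3 pr 71 * (S3 pr 67 * (S3 pr 67))))) = _
  rw [gt, u_eq, gti, gA, gC]
theorem s2_v1020 : S3 pr 16 = S3 pr 17 * S3 pr 17 := by
  have h := step3 (p := pr) (i := 16) (w := [0, 0]) (by decide) (by rfl)
  simp only [evF, mul_one] at h
  rw [h]
theorem s4_v1020 : S3 pr 15 = S3 pr 16 * S3 pr 16 := by
  have h := step3 (p := pr) (i := 15) (w := [0, 0]) (by decide) (by rfl)
  simp only [evF, mul_one] at h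
  rw [h]
theorem s8_v1020 : S3 pr 14 = S3 pr 15 * S3 pr 15 := by
  have h := step3 (p := pr) (i := 14) (w := [0, 0]) (by decide) (by rfl)
  simp only [evF, mul_one] at h
  rw [h]
theorem s16_v1020 : S3 pr 13 = S3 pr 14 * S3 pr 14 := by
  have h := step3 (p := pr) (i := 13) (w := [0, 0]) (by decide) (by rfl)
  simp only [evF, mul_one] at h
  rw [h]
theorem r_v1020 : (Rep.t * (u * (Rep.t⁻¹ * (A * (C₁ * (C₁)))))) ^ 19 = 1 := by
  have h := step3 (p := pr) (i := 12) (w := [0, 3, 4]) (by decide) (by rfl)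
  simp only [evF, mul_one] at h
  have h1 : S3 pr 12 = S3 pr 13 * (S3 pr 16 * S3 pr 17) := h
  have h2 : S3 pr 12 = S3 pr 89 := snd.1 (12, 89) (by decide)
  rw [h1, g1, s16_v1020, s8_v1020, s4_v1020, s2_v1020, v_v1020] at h2
  simpa only [pow_succ, pow_zero, one_mul, mul_assoc] using h2

theorem v_v1021 : S3 pr 11 = Rep.x * (Rep.z * (u * (Rep.z⁻¹ * (Rep.x⁻¹ * (A * (C₁ * (C₁ * (D)))))))) := by
  have h := step3 (p := pr) (i := 11) (w := [98, 102, 54, 103, 99, 59, 55, 55, 78]) (by decide) (by rfl)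
  simp only [evF, mul_one] at h
  rw [h]
  show S3 pr 110 * (S3 pr 114 * (S3 pr 66 * (S3 pr 115 * (S3 pr 111 * (S3 pr 71 * (S3 pr 67 * (S3 pr 67 * (S3 pr 90)))))))) = _
  rw [gx, gz, u_eq, gzi, gxi, gA, gC, gD]
theorem s2_v1021 : S3 pr 10 = S3 pr 11 * S3 pr 11 := by
  have h := step3 (p := pr) (i := 10) (w := [0, 0]) (by decide) (by rfl)
  simp only [evF, mul_one] at h
  rw [h]
theorem s4_v1021 : S3 pr 9 = S3 pr 10 * S3 pr 10 := by
  have h := step3 (p := pr) (i := 9) (w := [0, 0]) (by decide) (by rfl)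
  simp only [evF, mul_one] at h
  rw [h]
theorem s8_v1021 : S3 pr 8 = S3 pr 9 * S3 pr 9 := by
  have h := step3 (p := pr) (i := 8) (w := [0, 0]) (by decide) (by rfl)
  simp only [evF, mul_one] at h
  rw [h]
theorem s16_v1021 : S3 pr 7 = S3 pr 8 * S3 pr 8 := by
  have h := step3 (p := pr) (i := 7) (w := [0, 0]) (by decide) (by rfl)
  simp only [evF, mul_one] at h
  rw [h]
theorem r_v1021 : (Rep.x * (Rep.z * (u * (Rep.z⁻¹ * (Rep.x⁻¹ * (A * (C₁ * (C₁ * (D))))))))) ^ 19 = 1 := by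
  have h := step3 (p := pr) (i := 6) (w := [0, 3, 4]) (by decide) (by rfl)
  simp only [evF, mul_one] at h
  have h1 : S3 pr 6 = S3 pr 7 * (S3 pr 10 * S3 pr 11) := h
  have h2 : S3 pr 6 = S3 pr 89 := snd.1 (6, 89) (by decide)
  rw [h1, g1, s16_v1021, s8_v1021, s4_v1021, s2_v1021, v_v1021] at h2
  simpa only [pow_succ, pow_zero, one_mul, mul_assoc] using h2

theorem v_v1120 : S3 pr 5 = Rep.y⁻¹ * (u * (Rep.y * (A * (B * (C₁ * (C₁)))))) := by
  have h := step3 (p := pr) (i := 5) (w := [107, 60, 106, 65, 70, 61, 61]) (by decide) (by rfl)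
  simp only [evF, mul_one] at h
  rw [h]
  show S3 pr 113 * (S3 pr 66 * (S3 pr 112 * (S3 pr 71 * (S3 pr 76 * (S3 pr 67 * (S3 pr 67)))))) = _
  rw [gyi, u_eq, gy, gA, gB, gC]
theorem s2_v1120 : S3 pr 4 = S3 pr 5 * S3 pr 5 := by
  have h := step3 (p := pr) (i := 4) (w := [0, 0]) (by decide) (by rfl)
  simp only [evF, mul_one] at h
  rw [h]
theorem s4_v1120 : S3 pr 3 = S3 pr 4 * S3 pr 4 := by
  have h := step3 (p := pr) (i := 3) (w := [0, 0]) (by decide) (by rfl)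
  simp only [evF, mul_one] at h
  rw [h]
theorem s8_v1120 : S3 pr 2 = S3 pr 3 * S3 pr 3 := by
  have h := step3 (p := pr) (i := 2) (w := [0, 0]) (by decide) (by rfl)
  simp only [evF, mul_one] at h
  rw [h]
theorem s16_v1120 : S3 pr 1 = S3 pr 2 * S3 pr 2 := by
  have h := step3 (p := pr) (i := 1) (w := [0, 0]) (by decide) (by rfl)
  simp only [evF, mul_one] at h
  rw [h]
theorem r_v1120 : (Rep.y⁻¹ * (u * (Rep.y * (A * (B * (C₁ * (C₁))))))) ^ 19 = 1 := by
  have h := step3 (p := pr) (i := 0) (w := [0, 3, 4]) (by decide) (by rfl)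
  simp only [evF, mul_one] at h
  have h1 : S3 pr 0 = S3 pr 1 * (S3 pr 4 * S3 pr 5) := h
  have h2 : S3 pr 0 = S3 pr 89 := snd.1 (0, 89) (by decide)
  rw [h1, g1, s16_v1120, s8_v1120, s4_v1120, s2_v1120, v_v1120] at h2
  simpa only [pow_succ, pow_zero, one_mul, mul_assoc] using h2

end Cfsg.Agent.H315.SpHN.Tb
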