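import Cfsg.Agent.H315.Spr.HNInner
import Cfsg.Agent.H315.Spr.HNThree
import Cfsg.Agent.H609.TH.Link

/-!
# S3938, row `HN` (helper315, task 5132): the assembly
-/

set_option autoImplicit false

namespace Cfsg.Agent.H315.SpHN

open Subgroup Cfsg Cfsg.Agent.H609.TH Cfsg.Agent.H424.Spr

/-- **the elements of prime order are good** -/
theorem hn_inner (known : Cfsg.Agent.H257.El.Known.{0}) (g : Cfsg.Spor.HN) (hg : (orderOf g).Prime) : GoodI g :=
  goodI_prime known (Three.goodI_3 known) g hg

/-- the row, from the outer involutions -/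
theorem spr_of_outer (known : Cfsg.Agent.H257.El.Known.{0})
    (hO : ∀ a : MulAut Spor.HN, orderOf a = 2 → (∀ g : Spor.HN, a ≠ MulAut.conj g) → GoodA a)
    {T : Type} [Group T] [Finite T] (h : Spor.IsoHN T) : Spr T := by
  obtain ⟨e⟩ := h
  have hfin : Finite Spor.HN := Cfsg.Agent.H845.HNNineteen.finite_HN
  have hsim : IsSimpleGroup Spor.HN := Cfsg.Agent.S1701.result.1
  refine Spr.congr e.symm ?_
  refine spr_of_parts (exists_not_comm card_HN (by norm_num)) (hn_inner known) fun a ha hne => ?_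
  by_cases h2 : orderOf a = 2
  · exact hO a h2 hne
  · exfalso
    obtain ⟨g, hg⟩ := Cfsg.Agent.H256.OddInner.hn ⟨MulEquiv.refl Spor.HN⟩ a (ha.odd_of_ne_two h2)
    exact hne g hg

end Cfsg.Agent.H315.SpHN
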