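import Cfsg.Agent.H981.Inv.HNCodes
import Cfsg.Agent.H680.Split.HNWa
import Cfsg.Agent.H680.Split.HNG
import Cfsg.Agent.H687.EqD.EvFa

/-!
# Words of order 19, part 1 (helper315, for S3938, row `HN`)
-/

set_option autoImplicit false
set_option maxRecDepth 100000

namespace Cfsg.Agent.H315.SpHN.Wa

open Cfsg.Agent.HN Cfsg.Agent.H981.InvHN Cfsg.Agent.Lib.PackMatMul Cfsg.Agent.HN.RepData
open Cfsg.Agent.H839.Rad.HN (evF W A B C₁ D F)

/-- the program -/
def pr : List (ℕ × List ℕ) := [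
  (6, [7]),
  (10, [7, 9, 14, 11, 10, 8]),
  (14, [12, 0, 13, 15, 8, 8]),
  (0, [0]),
  (0, [0]),
  (0, [0]),
  (0, [0]),
  (0, [3, 4]),
  (18, [21, 6, 20, 19, 16, 16, 16, 14, 14]),
  (0, [0]),
  (0, [0]),
  (0, [0]),
  (0, [0]),
  (0, [3, 4]),
  (20, [26, 12, 27, 21, 22, 24, 26, 23, 26, 24]),
  (0, [0]),
  (0, [0]),
  (0, [0]),
  (0, [0]),
  (0, [3, 4]),
  (30, [26, 18, 27, 31, 21]),
  (0, [0]),
  (0, [0]),
  (0, [0]),
  (0, [0]),
  (0, [3, 4]),
  (32, [24, 33, 30]),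
  (0, [0]),
  (0, [0]),
  (0, [0]),
  (0, [0]),
  (0, [3, 4])]

/-- the equalities -/
def es : List (ℕ × ℕ) := [(24, 31), (18, 31), (12, 31), (6, 31), (0, 31)]

/-- the inequalities -/
def ns : List (ℕ × ℕ) := []

theorem chk : checkS C pr es ns L2 = true :=
  Cfsg.Agent.H154.Split.checkS_of_segs 14 Cfsg.Agent.H680.Split.HNWa.segs rfl (by decide +kernel)
    Cfsg.Agent.H680.Split.HNWa.chain

theorem snd : (∀ q ∈ es, S pr q.1 = S pr q.2) ∧ (∀ q ∈ ns, S pr q.1 ≠ S pr q.2) := soundS chk (by decide)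

theorem g (m : ℕ) : S pr (32 + m) = gens2.getD m 1 := genS pr m

theorem gW : S pr 32 = W := (g 0).trans Cfsg.Agent.H680.Split.HNG.eqs.1
theorem gA : S pr 33 = A := (g 1).trans Cfsg.Agent.H680.Split.HNG.eqs.2.1
theorem gB : S pr 34 = B := (g 2).trans Cfsg.Agent.H680.Split.HNG.eqs.2.2.1
theorem gC : S pr 35 = C₁ := (g 3).trans Cfsg.Agent.H680.Split.HNG.eqs.2.2.2.1
theorem gD : S pr 36 = D := (g 4).trans Cfsg.Agent.H680.Split.HNG.eqs.2.2.2.2.1
theorem gF : S pr 37 = F := (g 5).trans Cfsg.Agent.H680.Split.HNG.eqs.2.2.2.2.2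
theorem gx : S pr 38 = Rep.x := (g 6).trans Cfsg.Agent.H680.Split.HNG.eqs'.1
theorem gxi : S pr 39 = Rep.x⁻¹ := (g 7).trans Cfsg.Agent.H680.Split.HNG.eqs'.2.1
theorem gy : S pr 40 = Rep.y := (g 8).trans Cfsg.Agent.H680.Split.HNG.eqs'.2.2.1
theorem gyi : S pr 41 = Rep.y⁻¹ := (g 9).trans Cfsg.Agent.H680.Split.HNG.eqs'.2.2.2.1
theorem gz : S pr 42 = Rep.z := (g 10).trans Cfsg.Agent.H680.Split.HNG.eqs'.2.2.2.2.1
theorem gzi : S pr 43 = Rep.z⁻¹ := (g 11).trans Cfsg.Agent.H680.Split.HNG.eqs'.2.2.2.2.2.1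
theorem gt : S pr 44 = Rep.t := (g 12).trans Cfsg.Agent.H680.Split.HNG.eqs'.2.2.2.2.2.2.1
theorem gti : S pr 45 = Rep.t⁻¹ := (g 13).trans Cfsg.Agent.H680.Split.HNG.eqs'.2.2.2.2.2.2.2

theorem one_def : S pr 31 = Rep.x * Rep.x⁻¹ := by
  have h := stepS (p := pr) (i := 31) (w := [6, 7]) (by decide) (by rfl)
  simp only [evF, mul_one] at h
  rw [h]
  show S pr 38 * (S pr 39) = _
  rw [gx, gxi]
theorem one_eq : S pr 31 = 1 := by rw [one_def, mul_inv_cancel]

/-- the element of order `11` -/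
noncomputable def u : Cfsg.Spor.HN := Rep.y⁻¹ * (Rep.x * (Rep.y * (Rep.t⁻¹ * (Rep.z * (Rep.y⁻¹ * (Rep.x⁻¹))))))

theorem u_eq : S pr 30 = u := by
  have h := stepS (p := pr) (i := 30) (w := [10, 7, 9, 14, 11, 10, 8]) (by decide) (by rfl)
  simp only [evF, mul_one] at h
  rw [h]
  show S pr 41 * (S pr 38 * (S pr 40 * (S pr 45 * (S pr 42 * (S pr 41 * (S pr 39)))))) = _
  rw [gyi, gx, gy, gti, gz, gxi, u]
theorem v_x2 : S pr 29 = Rep.t * (Rep.z * (u * (Rep.z⁻¹ * (Rep.t⁻¹ * (Rep.x * (Rep.x)))))) := by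
  have h := stepS (p := pr) (i := 29) (w := [14, 12, 0, 13, 15, 8, 8]) (by decide) (by rfl)
  simp only [evF, mul_one] at h
  rw [h]
  show S pr 44 * (S pr 42 * (S pr 30 * (S pr 43 * (S pr 45 * (S pr 38 * (S pr 38)))))) = _
  rw [gt, gz, u_eq, gzi, gti, gx]
theorem s2_x2 : S pr 28 = S pr 29 * S pr 29 := by
  have h := stepS (p := pr) (i := 28) (w := [0, 0]) (by decide) (by rfl)
  simp only [evF, mul_one] at h
  rw [h]
theorem s4_x2 : S pr 27 = S pr 28 * S pr 28 := by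
  have h := stepS (p := pr) (i := 27) (w := [0, 0]) (by decide) (by rfl)
  simp only [evF, mul_one] at h
  rw [h]
theorem s8_x2 : S pr 26 = S pr 27 * S pr 27 := by
  have h := stepS (p := pr) (i := 26) (w := [0, 0]) (by decide) (by rfl)
  simp only [evF, mul_one] at h
  rw [h]
theorem s16_x2 : S pr 25 = S pr 26 * S pr 26 := by
  have h := stepS (p := pr) (i := 25) (w := [0, 0]) (by decide) (by rfl)
  simp only [evF, mul_one] at h
  rw [h]
theorem r_x2 : (Rep.t * (Rep.z * (u * (Rep.z⁻¹ * (Rep.t⁻¹ * (Rep.x * (Rep.x))))))) ^ 19 = 1 := by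
  have h := stepS (p := pr) (i := 24) (w := [0, 3, 4]) (by decide) (by rfl)
  simp only [evF, mul_one] at h
  have h1 : S pr 24 = S pr 25 * (S pr 28 * S pr 29) := h
  have h2 : S pr 24 = S pr 31 := snd.1 (24, 31) (by decide)
  rw [h1, one_eq, s16_x2, s8_x2, s4_x2, s2_x2, v_x2] at h2
  simpa only [pow_succ, pow_zero, one_mul, mul_assoc] using h2

theorem v_W0 : S pr 23 = Rep.z * (Rep.t⁻¹ * (u * (Rep.t * (Rep.z⁻¹ * (Rep.y * (Rep.y * (Rep.y * (Rep.x * (Rep.x))))))))) := by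
  have h := stepS (p := pr) (i := 23) (w := [18, 21, 6, 20, 19, 16, 16, 16, 14, 14]) (by decide) (by rfl)
  simp only [evF, mul_one] at h
  rw [h]
  show S pr 42 * (S pr 45 * (S pr 30 * (S pr 44 * (S pr 43 * (S pr 40 * (S pr 40 * (S pr 40 * (S pr 38 * (S pr 38))))))))) = _
  rw [gz, gti, u_eq, gt, gzi, gy, gx]
theorem s2_W0 : S pr 22 = S pr 23 * S pr 23 := by
  have h := stepS (p := pr) (i := 22) (w := [0, 0]) (by decide) (by rfl)
  simp only [evF, mul_one] at h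
  rw [h]
theorem s4_W0 : S pr 21 = S pr 22 * S pr 22 := by
  have h := stepS (p := pr) (i := 21) (w := [0, 0]) (by decide) (by rfl)
  simp only [evF, mul_one] at h
  rw [h]
theorem s8_W0 : S pr 20 = S pr 21 * S pr 21 := by
  have h := stepS (p := pr) (i := 20) (w := [0, 0]) (by decide) (by rfl)
  simp only [evF, mul_one] at h
  rw [h]
theorem s16_W0 : S pr 19 = S pr 20 * S pr 20 := by
  have h := stepS (p := pr) (i := 19) (w := [0, 0]) (by decide) (by rfl)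
  simp only [evF, mul_one] at h
  rw [h]
theorem r_W0 : (Rep.z * (Rep.t⁻¹ * (u * (Rep.t * (Rep.z⁻¹ * (Rep.y * (Rep.y * (Rep.y * (Rep.x * (Rep.x)))))))))) ^ 19 = 1 := by
  have h := stepS (p := pr) (i := 18) (w := [0, 3, 4]) (by decide) (by rfl)
  simp only [evF, mul_one] at h
  have h1 : S pr 18 = S pr 19 * (S pr 22 * S pr 23) := h
  have h2 : S pr 18 = S pr 31 := snd.1 (18, 31) (by decide)
  rw [h1, one_eq, s16_W0, s8_W0, s4_W0, s2_W0, v_W0] at h2
  simpa only [pow_succ, pow_zero, one_mul, mul_assoc] using h2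

theorem v_g7 : S pr 17 = Rep.x * (Rep.t * (u * (Rep.t⁻¹ * (Rep.x⁻¹ * (Rep.y * (Rep.z * (Rep.t * (Rep.y⁻¹ * (Rep.t * (Rep.z)))))))))) := by
  have h := stepS (p := pr) (i := 17) (w := [20, 26, 12, 27, 21, 22, 24, 26, 23, 26, 24]) (by decide) (by rfl)
  simp only [evF, mul_one] at h
  rw [h]
  show S pr 38 * (S pr 44 * (S pr 30 * (S pr 45 * (S pr 39 * (S pr 40 * (S pr 42 * (S pr 44 * (S pr 41 * (S pr 44 * (S pr 42)))))))))) = _
  rw [gx, gt, u_eq, gti, gxi, gy, gz, gyi]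
theorem s2_g7 : S pr 16 = S pr 17 * S pr 17 := by
  have h := stepS (p := pr) (i := 16) (w := [0, 0]) (by decide) (by rfl)
  simp only [evF, mul_one] at h
  rw [h]
theorem s4_g7 : S pr 15 = S pr 16 * S pr 16 := by
  have h := stepS (p := pr) (i := 15) (w := [0, 0]) (by decide) (by rfl)
  simp only [evF, mul_one] at h
  rw [h]
theorem s8_g7 : S pr 14 = S pr 15 * S pr 15 := by
  have h := stepS (p := pr) (i := 14) (w := [0, 0]) (by decide) (by rfl)
  simp only [evF, mul_one] at h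
  rw [h]
theorem s16_g7 : S pr 13 = S pr 14 * S pr 14 := by
  have h := stepS (p := pr) (i := 13) (w := [0, 0]) (by decide) (by rfl)
  simp only [evF, mul_one] at h
  rw [h]
theorem r_g7 : (Rep.x * (Rep.t * (u * (Rep.t⁻¹ * (Rep.x⁻¹ * (Rep.y * (Rep.z * (Rep.t * (Rep.y⁻¹ * (Rep.t * (Rep.z))))))))))) ^ 19 = 1 := by
  have h := stepS (p := pr) (i := 12) (w := [0, 3, 4]) (by decide) (by rfl)
  simp only [evF, mul_one] at h
  have h1 : S pr 12 = S pr 13 * (S pr 16 * S pr 17) := h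
  have h2 : S pr 12 = S pr 31 := snd.1 (12, 31) (by decide)
  rw [h1, one_eq, s16_g7, s8_g7, s4_g7, s2_g7, v_g7] at h2
  simpa only [pow_succ, pow_zero, one_mul, mul_assoc] using h2

theorem v_A : S pr 11 = Rep.z * (Rep.x * (u * (Rep.x⁻¹ * (Rep.z⁻¹ * (A))))) := by
  have h := stepS (p := pr) (i := 11) (w := [30, 26, 18, 27, 31, 21]) (by decide) (by rfl)
  simp only [evF, mul_one] at h
  rw [h]
  show S pr 42 * (S pr 38 * (S pr 30 * (S pr 39 * (S pr 43 * (S pr 33))))) = _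
  rw [gz, gx, u_eq, gxi, gzi, gA]
theorem s2_A : S pr 10 = S pr 11 * S pr 11 := by
  have h := stepS (p := pr) (i := 10) (w := [0, 0]) (by decide) (by rfl)
  simp only [evF, mul_one] at h
  rw [h]
theorem s4_A : S pr 9 = S pr 10 * S pr 10 := by
  have h := stepS (p := pr) (i := 9) (w := [0, 0]) (by decide) (by rfl)
  simp only [evF, mul_one] at h
  rw [h]
theorem s8_A : S pr 8 = S pr 9 * S pr 9 := by
  have h := stepS (p := pr) (i := 8) (w := [0, 0]) (by decide) (by rfl)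
  simp only [evF, mul_one] at h
  rw [h]
theorem s16_A : S pr 7 = S pr 8 * S pr 8 := by
  have h := stepS (p := pr) (i := 7) (w := [0, 0]) (by decide) (by rfl)
  simp only [evF, mul_one] at h
  rw [h]
theorem r_A : (Rep.z * (Rep.x * (u * (Rep.x⁻¹ * (Rep.z⁻¹ * (A)))))) ^ 19 = 1 := by
  have h := stepS (p := pr) (i := 6) (w := [0, 3, 4]) (by decide) (by rfl)
  simp only [evF, mul_one] at h
  have h1 : S pr 6 = S pr 7 * (S pr 10 * S pr 11) := h
  have h2 : S pr 6 = S pr 31 := snd.1 (6, 31) (by decide)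
  rw [h1, one_eq, s16_A, s8_A, s4_A, s2_A, v_A] at h2
  simpa only [pow_succ, pow_zero, one_mul, mul_assoc] using h2

theorem v_D : S pr 5 = Rep.x * (u * (Rep.x⁻¹ * (D))) := by
  have h := stepS (p := pr) (i := 5) (w := [32, 24, 33, 30]) (by decide) (by rfl)
  simp only [evF, mul_one] at h
  rw [h]
  show S pr 38 * (S pr 30 * (S pr 39 * (S pr 36))) = _
  rw [gx, u_eq, gxi, gD]
theorem s2_D : S pr 4 = S pr 5 * S pr 5 := by
  have h := stepS (p := pr) (i := 4) (w := [0, 0]) (by decide) (by rfl)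
  simp only [evF, mul_one] at h
  rw [h]
theorem s4_D : S pr 3 = S pr 4 * S pr 4 := by
  have h := stepS (p := pr) (i := 3) (w := [0, 0]) (by decide) (by rfl)
  simp only [evF, mul_one] at h
  rw [h]
theorem s8_D : S pr 2 = S pr 3 * S pr 3 := by
  have h := stepS (p := pr) (i := 2) (w := [0, 0]) (by decide) (by rfl)
  simp only [evF, mul_one] at h
  rw [h]
theorem s16_D : S pr 1 = S pr 2 * S pr 2 := by
  have h := stepS (p := pr) (i := 1) (w := [0, 0]) (by decide) (by rfl)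
  simp only [evF, mul_one] at h
  rw [h]
theorem r_D : (Rep.x * (u * (Rep.x⁻¹ * (D)))) ^ 19 = 1 := by
  have h := stepS (p := pr) (i := 0) (w := [0, 3, 4]) (by decide) (by rfl)
  simp only [evF, mul_one] at h
  have h1 : S pr 0 = S pr 1 * (S pr 4 * S pr 5) := h
  have h2 : S pr 0 = S pr 31 := snd.1 (0, 31) (by decide)
  rw [h1, one_eq, s16_D, s8_D, s4_D, s2_D, v_D] at h2
  simpa only [pow_succ, pow_zero, one_mul, mul_assoc] using h2

end Cfsg.Agent.H315.SpHN.Wa
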