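import Cfsg.Agent.H981.Inv.HNCodes
import Cfsg.Agent.H680.Split.HNWb
import Cfsg.Agent.H680.Split.HNG
import Cfsg.Agent.H687.EqD.EvFa

/-!
# Words of order 19, part 2 (helper315, for S3938, row `HN`)
-/

set_option autoImplicit false
set_option maxRecDepth 100000

namespace Cfsg.Agent.H315.SpHN.Wb

open Cfsg.Agent.HN Cfsg.Agent.H981.InvHN Cfsg.Agent.Lib.PackMatMul Cfsg.Agent.HN.RepData
open Cfsg.Agent.H839.Rad.HN (evF W A B C₁ D F)

/-- the program -/
def pr : List (ℕ × List ℕ) := [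
  (6, [7]),
  (10, [7, 9, 14, 11, 10, 8]),
  (12, [0, 13, 5]),
  (0, [0]),
  (0, [0]),
  (0, [0]),
  (0, [0]),
  (0, [3, 4]),
  (15, [6, 14, 10, 12, 12]),
  (0, [0]),
  (0, [0]),
  (0, [0]),
  (0, [0]),
  (0, [3, 4]),
  (24, [12, 25, 15, 18, 18]),
  (0, [0]),
  (0, [0]),
  (0, [0]),
  (0, [0]),
  (0, [3, 4]),
  (28, [18, 29, 25]),
  (0, [0]),
  (0, [0]),
  (0, [0]),
  (0, [0]),
  (0, [3, 4])]

/-- the equalities -/
def es : List (ℕ × ℕ) := [(18, 25), (12, 25), (6, 25), (0, 25)]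

/-- the inequalities -/
def ns : List (ℕ × ℕ) := []

theorem chk : checkS C pr es ns L2 = true :=
  Cfsg.Agent.H154.Split.checkS_of_segs 14 Cfsg.Agent.H680.Split.HNWb.segs rfl (by decide +kernel)
    Cfsg.Agent.H680.Split.HNWb.chain

theorem snd : (∀ q ∈ es, S pr q.1 = S pr q.2) ∧ (∀ q ∈ ns, S pr q.1 ≠ S pr q.2) := soundS chk (by decide)

theorem g (m : ℕ) : S pr (26 + m) = gens2.getD m 1 := genS pr m

theorem gW : S pr 26 = W := (g 0).trans Cfsg.Agent.H680.Split.HNG.eqs.1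
theorem gA : S pr 27 = A := (g 1).trans Cfsg.Agent.H680.Split.HNG.eqs.2.1
theorem gB : S pr 28 = B := (g 2).trans Cfsg.Agent.H680.Split.HNG.eqs.2.2.1
theorem gC : S pr 29 = C₁ := (g 3).trans Cfsg.Agent.H680.Split.HNG.eqs.2.2.2.1
theorem gD : S pr 30 = D := (g 4).trans Cfsg.Agent.H680.Split.HNG.eqs.2.2.2.2.1
theorem gF : S pr 31 = F := (g 5).trans Cfsg.Agent.H680.Split.HNG.eqs.2.2.2.2.2
theorem gx : S pr 32 = Rep.x := (g 6).trans Cfsg.Agent.H680.Split.HNG.eqs'.1
theorem gxi : S pr 33 = Rep.x⁻¹ := (g 7).trans Cfsg.Agent.H680.Split.HNG.eqs'.2.1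
theorem gy : S pr 34 = Rep.y := (g 8).trans Cfsg.Agent.H680.Split.HNG.eqs'.2.2.1
theorem gyi : S pr 35 = Rep.y⁻¹ := (g 9).trans Cfsg.Agent.H680.Split.HNG.eqs'.2.2.2.1
theorem gz : S pr 36 = Rep.z := (g 10).trans Cfsg.Agent.H680.Split.HNG.eqs'.2.2.2.2.1
theorem gzi : S pr 37 = Rep.z⁻¹ := (g 11).trans Cfsg.Agent.H680.Split.HNG.eqs'.2.2.2.2.2.1
theorem gt : S pr 38 = Rep.t := (g 12).trans Cfsg.Agent.H680.Split.HNG.eqs'.2.2.2.2.2.2.1
theorem gti : S pr 39 = Rep.t⁻¹ := (g 13).trans Cfsg.Agent.H680.Split.HNG.eqs'.2.2.2.2.2.2.2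

theorem one_def : S pr 25 = Rep.x * Rep.x⁻¹ := by
  have h := stepS (p := pr) (i := 25) (w := [6, 7]) (by decide) (by rfl)
  simp only [evF, mul_one] at h
  rw [h]
  show S pr 32 * (S pr 33) = _
  rw [gx, gxi]
theorem one_eq : S pr 25 = 1 := by rw [one_def, mul_inv_cancel]

/-- the element of order `11` -/
noncomputable def u : Cfsg.Spor.HN := Rep.y⁻¹ * (Rep.x * (Rep.y * (Rep.t⁻¹ * (Rep.z * (Rep.y⁻¹ * (Rep.x⁻¹))))))

theorem u_eq : S pr 24 = u := by
  have h := stepS (p := pr) (i := 24) (w := [10, 7, 9, 14, 11, 10, 8]) (by decide) (by rfl)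
  simp only [evF, mul_one] at h
  rw [h]
  show S pr 35 * (S pr 32 * (S pr 34 * (S pr 39 * (S pr 36 * (S pr 35 * (S pr 33)))))) = _
  rw [gyi, gx, gy, gti, gz, gxi, u]
theorem v_C : S pr 23 = Rep.z * (u * (Rep.z⁻¹ * (C₁))) := by
  have h := stepS (p := pr) (i := 23) (w := [12, 0, 13, 5]) (by decide) (by rfl)
  simp only [evF, mul_one] at h
  rw [h]
  show S pr 36 * (S pr 24 * (S pr 37 * (S pr 29))) = _
  rw [gz, u_eq, gzi, gC]
theorem s2_C : S pr 22 = S pr 23 * S pr 23 := by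
  have h := stepS (p := pr) (i := 22) (w := [0, 0]) (by decide) (by rfl)
  simp only [evF, mul_one] at h
  rw [h]
theorem s4_C : S pr 21 = S pr 22 * S pr 22 := by
  have h := stepS (p := pr) (i := 21) (w := [0, 0]) (by decide) (by rfl)
  simp only [evF, mul_one] at h
  rw [h]
theorem s8_C : S pr 20 = S pr 21 * S pr 21 := by
  have h := stepS (p := pr) (i := 20) (w := [0, 0]) (by decide) (by rfl)
  simp only [evF, mul_one] at h
  rw [h]
theorem s16_C : S pr 19 = S pr 20 * S pr 20 := by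
  have h := stepS (p := pr) (i := 19) (w := [0, 0]) (by decide) (by rfl)
  simp only [evF, mul_one] at h
  rw [h]
theorem r_C : (Rep.z * (u * (Rep.z⁻¹ * (C₁)))) ^ 19 = 1 := by
  have h := stepS (p := pr) (i := 18) (w := [0, 3, 4]) (by decide) (by rfl)
  simp only [evF, mul_one] at h
  have h1 : S pr 18 = S pr 19 * (S pr 22 * S pr 23) := h
  have h2 : S pr 18 = S pr 25 := snd.1 (18, 25) (by decide)
  rw [h1, one_eq, s16_C, s8_C, s4_C, s2_C, v_C] at h2
  simpa only [pow_succ, pow_zero, one_mul, mul_assoc] using h2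

theorem v_BDD : S pr 17 = Rep.x⁻¹ * (u * (Rep.x * (B * (D * (D))))) := by
  have h := stepS (p := pr) (i := 17) (w := [15, 6, 14, 10, 12, 12]) (by decide) (by rfl)
  simp only [evF, mul_one] at h
  rw [h]
  show S pr 33 * (S pr 24 * (S pr 32 * (S pr 28 * (S pr 30 * (S pr 30))))) = _
  rw [gxi, u_eq, gx, gB, gD]
theorem s2_BDD : S pr 16 = S pr 17 * S pr 17 := by
  have h := stepS (p := pr) (i := 16) (w := [0, 0]) (by decide) (by rfl)
  simp only [evF, mul_one] at h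
  rw [h]
theorem s4_BDD : S pr 15 = S pr 16 * S pr 16 := by
  have h := stepS (p := pr) (i := 15) (w := [0, 0]) (by decide) (by rfl)
  simp only [evF, mul_one] at h
  rw [h]
theorem s8_BDD : S pr 14 = S pr 15 * S pr 15 := by
  have h := stepS (p := pr) (i := 14) (w := [0, 0]) (by decide) (by rfl)
  simp only [evF, mul_one] at h
  rw [h]
theorem s16_BDD : S pr 13 = S pr 14 * S pr 14 := by
  have h := stepS (p := pr) (i := 13) (w := [0, 0]) (by decide) (by rfl)
  simp only [evF, mul_one] at h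
  rw [h]
theorem r_BDD : (Rep.x⁻¹ * (u * (Rep.x * (B * (D * (D)))))) ^ 19 = 1 := by
  have h := stepS (p := pr) (i := 12) (w := [0, 3, 4]) (by decide) (by rfl)
  simp only [evF, mul_one] at h
  have h1 : S pr 12 = S pr 13 * (S pr 16 * S pr 17) := h
  have h2 : S pr 12 = S pr 25 := snd.1 (12, 25) (by decide)
  rw [h1, one_eq, s16_BDD, s8_BDD, s4_BDD, s2_BDD, v_BDD] at h2
  simpa only [pow_succ, pow_zero, one_mul, mul_assoc] using h2

theorem v_ADD : S pr 11 = Rep.z * (u * (Rep.z⁻¹ * (A * (D * (D))))) := by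
  have h := stepS (p := pr) (i := 11) (w := [24, 12, 25, 15, 18, 18]) (by decide) (by rfl)
  simp only [evF, mul_one] at h
  rw [h]
  show S pr 36 * (S pr 24 * (S pr 37 * (S pr 27 * (S pr 30 * (S pr 30))))) = _
  rw [gz, u_eq, gzi, gA, gD]
theorem s2_ADD : S pr 10 = S pr 11 * S pr 11 := by
  have h := stepS (p := pr) (i := 10) (w := [0, 0]) (by decide) (by rfl)
  simp only [evF, mul_one] at h
  rw [h]
theorem s4_ADD : S pr 9 = S pr 10 * S pr 10 := by
  have h := stepS (p := pr) (i := 9) (w := [0, 0]) (by decide) (by rfl)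
  simp only [evF, mul_one] at h
  rw [h]
theorem s8_ADD : S pr 8 = S pr 9 * S pr 9 := by
  have h := stepS (p := pr) (i := 8) (w := [0, 0]) (by decide) (by rfl)
  simp only [evF, mul_one] at h
  rw [h]
theorem s16_ADD : S pr 7 = S pr 8 * S pr 8 := by
  have h := stepS (p := pr) (i := 7) (w := [0, 0]) (by decide) (by rfl)
  simp only [evF, mul_one] at h
  rw [h]
theorem r_ADD : (Rep.z * (u * (Rep.z⁻¹ * (A * (D * (D)))))) ^ 19 = 1 := by
  have h := stepS (p := pr) (i := 6) (w := [0, 3, 4]) (by decide) (by rfl)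
  simp only [evF, mul_one] at h
  have h1 : S pr 6 = S pr 7 * (S pr 10 * S pr 11) := h
  have h2 : S pr 6 = S pr 25 := snd.1 (6, 25) (by decide)
  rw [h1, one_eq, s16_ADD, s8_ADD, s4_ADD, s2_ADD, v_ADD] at h2
  simpa only [pow_succ, pow_zero, one_mul, mul_assoc] using h2

theorem v_F : S pr 5 = Rep.y * (u * (Rep.y⁻¹ * (F))) := by
  have h := stepS (p := pr) (i := 5) (w := [28, 18, 29, 25]) (by decide) (by rfl)
  simp only [evF, mul_one] at h
  rw [h]
  show S pr 34 * (S pr 24 * (S pr 35 * (S pr 31))) = _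
  rw [gy, u_eq, gyi, gF]
theorem s2_F : S pr 4 = S pr 5 * S pr 5 := by
  have h := stepS (p := pr) (i := 4) (w := [0, 0]) (by decide) (by rfl)
  simp only [evF, mul_one] at h
  rw [h]
theorem s4_F : S pr 3 = S pr 4 * S pr 4 := by
  have h := stepS (p := pr) (i := 3) (w := [0, 0]) (by decide) (by rfl)
  simp only [evF, mul_one] at h
  rw [h]
theorem s8_F : S pr 2 = S pr 3 * S pr 3 := by
  have h := stepS (p := pr) (i := 2) (w := [0, 0]) (by decide) (by rfl)
  simp only [evF, mul_one] at h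
  rw [h]
theorem s16_F : S pr 1 = S pr 2 * S pr 2 := by
  have h := stepS (p := pr) (i := 1) (w := [0, 0]) (by decide) (by rfl)
  simp only [evF, mul_one] at h
  rw [h]
theorem r_F : (Rep.y * (u * (Rep.y⁻¹ * (F)))) ^ 19 = 1 := by
  have h := stepS (p := pr) (i := 0) (w := [0, 3, 4]) (by decide) (by rfl)
  simp only [evF, mul_one] at h
  have h1 : S pr 0 = S pr 1 * (S pr 4 * S pr 5) := h
  have h2 : S pr 0 = S pr 25 := snd.1 (0, 25) (by decide)
  rw [h1, one_eq, s16_F, s8_F, s4_F, s2_F, v_F] at h2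
  simpa only [pow_succ, pow_zero, one_mul, mul_assoc] using h2

end Cfsg.Agent.H315.SpHN.Wb
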