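import Cfsg.Agent.H981.Inv.HNCodes
import Cfsg.Agent.H680.Split.HNWc
import Cfsg.Agent.H680.Split.HNG
import Cfsg.Agent.H687.EqD.EvFa

/-!
# Words of order 19, part 3 (helper315, for S3938, row `HN`)
-/

set_option autoImplicit false
set_option maxRecDepth 100000

namespace Cfsg.Agent.H315.SpHN.Wc

open Cfsg.Agent.HN Cfsg.Agent.H981.InvHN Cfsg.Agent.Lib.PackMatMul Cfsg.Agent.HN.RepData
open Cfsg.Agent.H839.Rad.HN (evF W A B C₁ D F)

/-- the program -/
def pr : List (ℕ × List ℕ) := [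
  (6, [7]),
  (10, [7, 9, 14, 11, 10, 8]),
  (8, [10, 0, 11, 9, 2, 7]),
  (0, [0]),
  (0, [0]),
  (0, [0]),
  (0, [0]),
  (0, [3, 4]),
  (14, [20, 6, 21, 15, 8, 8, 13]),
  (0, [0]),
  (0, [0]),
  (0, [0]),
  (0, [0]),
  (0, [3, 4]),
  (21, [12, 20, 14, 14, 14, 19]),
  (0, [0]),
  (0, [0]),
  (0, [0]),
  (0, [0]),
  (0, [3, 4]),
  (30, [26, 18, 27, 31, 20, 20, 20, 20, 25]),
  (0, [0]),
  (0, [0]),
  (0, [0]),
  (0, [0]),
  (0, [3, 4])]

/-- the equalities -/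
def es : List (ℕ × ℕ) := [(18, 25), (12, 25), (6, 25), (0, 25)]

/-- the inequalities -/
def ns : List (ℕ × ℕ) := []

theorem chk : checkS C pr es ns L2 = true :=
  Cfsg.Agent.H154.Split.checkS_of_segs 14 Cfsg.Agent.H680.Split.HNWc.segs rfl (by decide +kernel)
    Cfsg.Agent.H680.Split.HNWc.chain

theorem snd : (∀ q ∈ es, S pr q.1 = S pr q.2) ∧ (∀ q ∈ ns, S pr q.1 ≠ S pr q.2) := soundS chk (by decide)

theorem g (m : ℕ) : S pr (26 + m) = gens2.getD m 1 := genS pr m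

theorem gW : S pr 26 = W := (g 0).trans Cfsg.Agent.H680.Split.HNG.eqs.1
theorem gA : S pr 27 = A := (g 1).trans Cfsg.Agent.H680.Split.HNG.eqs.2.1
theorem gB : S pr 28 = B := (g 2).trans Cfsg.Agent.H680.Split.HNG.eqs.2.2.1
theorem gC : S pr 29 = C₁ := (g 3).trans Cfsg.Agent.H680.Split.HNG.eqs.2.2.2.1
theorem gD : S pr 30 = D := (g 4).trans Cfsg.Agent.H680.Split.HNG.eqs.2.2.2.2.1
theorem gF : S pr 31 = F := (g 5).trans Cfsg.Agent.H680.Split.HNG.eqs.2.2.2.2.2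
theorem gx : S pr 32 = Rep.x := (g 6).trans Cfsg.Agent.H680.Split.HNG.eqs'.1
theorem gxi : S pr 33 = Rep.x⁻¹ := (g 7).trans Cfsg.Agent.H680.Split.HNG.eqs'.2.1
theorem gy : S pr 34 = Rep.y := (g 8).trans Cfsg.Agent.H680.Split.HNG.eqs'.2.2.1
theorem gyi : S pr 35 = Rep.y⁻¹ := (g 9).trans Cfsg.Agent.H680.Split.HNG.eqs'.2.2.2.1
theorem gz : S pr 36 = Rep.z := (g 10).trans Cfsg.Agent.H680.Split.HNG.eqs'.2.2.2.2.1
theorem gzi : S pr 37 = Rep.z⁻¹ := (g 11).trans Cfsg.Agent.H680.Split.HNG.eqs'.2.2.2.2.2.1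
theorem gt : S pr 38 = Rep.t := (g 12).trans Cfsg.Agent.H680.Split.HNG.eqs'.2.2.2.2.2.2.1
theorem gti : S pr 39 = Rep.t⁻¹ := (g 13).trans Cfsg.Agent.H680.Split.HNG.eqs'.2.2.2.2.2.2.2

theorem one_def : S pr 25 = Rep.x * Rep.x⁻¹ := by
  have h := stepS (p := pr) (i := 25) (w := [6, 7]) (by decide) (by rfl)
  simp only [evF, mul_one] at h
  rw [h]
  show S pr 32 * (S pr 33) = _
  rw [gx, gxi]
theorem one_eq : S pr 25 = 1 := by rw [one_def, mul_inv_cancel]

/-- the element of order `11` -/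
noncomputable def u : Cfsg.Spor.HN := Rep.y⁻¹ * (Rep.x * (Rep.y * (Rep.t⁻¹ * (Rep.z * (Rep.y⁻¹ * (Rep.x⁻¹))))))

theorem u_eq : S pr 24 = u := by
  have h := stepS (p := pr) (i := 24) (w := [10, 7, 9, 14, 11, 10, 8]) (by decide) (by rfl)
  simp only [evF, mul_one] at h
  rw [h]
  show S pr 35 * (S pr 32 * (S pr 34 * (S pr 39 * (S pr 36 * (S pr 35 * (S pr 33)))))) = _
  rw [gyi, gx, gy, gti, gz, gxi, u]
theorem v_WF : S pr 23 = Rep.x * (Rep.y * (u * (Rep.y⁻¹ * (Rep.x⁻¹ * (W * (F)))))) := by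
  have h := stepS (p := pr) (i := 23) (w := [8, 10, 0, 11, 9, 2, 7]) (by decide) (by rfl)
  simp only [evF, mul_one] at h
  rw [h]
  show S pr 32 * (S pr 34 * (S pr 24 * (S pr 35 * (S pr 33 * (S pr 26 * (S pr 31)))))) = _
  rw [gx, gy, u_eq, gyi, gxi, gW, gF]
theorem s2_WF : S pr 22 = S pr 23 * S pr 23 := by
  have h := stepS (p := pr) (i := 22) (w := [0, 0]) (by decide) (by rfl)
  simp only [evF, mul_one] at h
  rw [h]
theorem s4_WF : S pr 21 = S pr 22 * S pr 22 := by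
  have h := stepS (p := pr) (i := 21) (w := [0, 0]) (by decide) (by rfl)
  simp only [evF, mul_one] at h
  rw [h]
theorem s8_WF : S pr 20 = S pr 21 * S pr 21 := by
  have h := stepS (p := pr) (i := 20) (w := [0, 0]) (by decide) (by rfl)
  simp only [evF, mul_one] at h
  rw [h]
theorem s16_WF : S pr 19 = S pr 20 * S pr 20 := by
  have h := stepS (p := pr) (i := 19) (w := [0, 0]) (by decide) (by rfl)
  simp only [evF, mul_one] at h
  rw [h]
theorem r_WF : (Rep.x * (Rep.y * (u * (Rep.y⁻¹ * (Rep.x⁻¹ * (W * (F))))))) ^ 19 = 1 := by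
  have h := stepS (p := pr) (i := 18) (w := [0, 3, 4]) (by decide) (by rfl)
  simp only [evF, mul_one] at h
  have h1 : S pr 18 = S pr 19 * (S pr 22 * S pr 23) := h
  have h2 : S pr 18 = S pr 25 := snd.1 (18, 25) (by decide)
  rw [h1, one_eq, s16_WF, s8_WF, s4_WF, s2_WF, v_WF] at h2
  simpa only [pow_succ, pow_zero, one_mul, mul_assoc] using h2

theorem v_WWF : S pr 17 = Rep.x * (Rep.t * (u * (Rep.t⁻¹ * (Rep.x⁻¹ * (W * (W * (F))))))) := by
  have h := stepS (p := pr) (i := 17) (w := [14, 20, 6, 21, 15, 8, 8, 13]) (by decide) (by rfl)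
  simp only [evF, mul_one] at h
  rw [h]
  show S pr 32 * (S pr 38 * (S pr 24 * (S pr 39 * (S pr 33 * (S pr 26 * (S pr 26 * (S pr 31))))))) = _
  rw [gx, gt, u_eq, gti, gxi, gW, gF]
theorem s2_WWF : S pr 16 = S pr 17 * S pr 17 := by
  have h := stepS (p := pr) (i := 16) (w := [0, 0]) (by decide) (by rfl)
  simp only [evF, mul_one] at h
  rw [h]
theorem s4_WWF : S pr 15 = S pr 16 * S pr 16 := by
  have h := stepS (p := pr) (i := 15) (w := [0, 0]) (by decide) (by rfl)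
  simp only [evF, mul_one] at h
  rw [h]
theorem s8_WWF : S pr 14 = S pr 15 * S pr 15 := by
  have h := stepS (p := pr) (i := 14) (w := [0, 0]) (by decide) (by rfl)
  simp only [evF, mul_one] at h
  rw [h]
theorem s16_WWF : S pr 13 = S pr 14 * S pr 14 := by
  have h := stepS (p := pr) (i := 13) (w := [0, 0]) (by decide) (by rfl)
  simp only [evF, mul_one] at h
  rw [h]
theorem r_WWF : (Rep.x * (Rep.t * (u * (Rep.t⁻¹ * (Rep.x⁻¹ * (W * (W * (F)))))))) ^ 19 = 1 := by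
  have h := stepS (p := pr) (i := 12) (w := [0, 3, 4]) (by decide) (by rfl)
  simp only [evF, mul_one] at h
  have h1 : S pr 12 = S pr 13 * (S pr 16 * S pr 17) := h
  have h2 : S pr 12 = S pr 25 := snd.1 (12, 25) (by decide)
  rw [h1, one_eq, s16_WWF, s8_WWF, s4_WWF, s2_WWF, v_WWF] at h2
  simpa only [pow_succ, pow_zero, one_mul, mul_assoc] using h2

theorem v_WWWF : S pr 11 = Rep.x⁻¹ * (u * (Rep.x * (W * (W * (W * (F)))))) := by
  have h := stepS (p := pr) (i := 11) (w := [21, 12, 20, 14, 14, 14, 19]) (by decide) (by rfl)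
  simp only [evF, mul_one] at h
  rw [h]
  show S pr 33 * (S pr 24 * (S pr 32 * (S pr 26 * (S pr 26 * (S pr 26 * (S pr 31)))))) = _
  rw [gxi, u_eq, gx, gW, gF]
theorem s2_WWWF : S pr 10 = S pr 11 * S pr 11 := by
  have h := stepS (p := pr) (i := 10) (w := [0, 0]) (by decide) (by rfl)
  simp only [evF, mul_one] at h
  rw [h]
theorem s4_WWWF : S pr 9 = S pr 10 * S pr 10 := by
  have h := stepS (p := pr) (i := 9) (w := [0, 0]) (by decide) (by rfl)
  simp only [evF, mul_one] at h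
  rw [h]
theorem s8_WWWF : S pr 8 = S pr 9 * S pr 9 := by
  have h := stepS (p := pr) (i := 8) (w := [0, 0]) (by decide) (by rfl)
  simp only [evF, mul_one] at h
  rw [h]
theorem s16_WWWF : S pr 7 = S pr 8 * S pr 8 := by
  have h := stepS (p := pr) (i := 7) (w := [0, 0]) (by decide) (by rfl)
  simp only [evF, mul_one] at h
  rw [h]
theorem r_WWWF : (Rep.x⁻¹ * (u * (Rep.x * (W * (W * (W * (F))))))) ^ 19 = 1 := by
  have h := stepS (p := pr) (i := 6) (w := [0, 3, 4]) (by decide) (by rfl)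
  simp only [evF, mul_one] at h
  have h1 : S pr 6 = S pr 7 * (S pr 10 * S pr 11) := h
  have h2 : S pr 6 = S pr 25 := snd.1 (6, 25) (by decide)
  rw [h1, one_eq, s16_WWWF, s8_WWWF, s4_WWWF, s2_WWWF, v_WWWF] at h2
  simpa only [pow_succ, pow_zero, one_mul, mul_assoc] using h2

theorem v_WWWWF : S pr 5 = Rep.z * (Rep.x * (u * (Rep.x⁻¹ * (Rep.z⁻¹ * (W * (W * (W * (W * (F))))))))) := by
  have h := stepS (p := pr) (i := 5) (w := [30, 26, 18, 27, 31, 20, 20, 20, 20, 25]) (by decide) (by rfl)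
  simp only [evF, mul_one] at h
  rw [h]
  show S pr 36 * (S pr 32 * (S pr 24 * (S pr 33 * (S pr 37 * (S pr 26 * (S pr 26 * (S pr 26 * (S pr 26 * (S pr 31))))))))) = _
  rw [gz, gx, u_eq, gxi, gzi, gW, gF]
theorem s2_WWWWF : S pr 4 = S pr 5 * S pr 5 := by
  have h := stepS (p := pr) (i := 4) (w := [0, 0]) (by decide) (by rfl)
  simp only [evF, mul_one] at h
  rw [h]
theorem s4_WWWWF : S pr 3 = S pr 4 * S pr 4 := by
  have h := stepS (p := pr) (i := 3) (w := [0, 0]) (by decide) (by rfl)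
  simp only [evF, mul_one] at h
  rw [h]
theorem s8_WWWWF : S pr 2 = S pr 3 * S pr 3 := by
  have h := stepS (p := pr) (i := 2) (w := [0, 0]) (by decide) (by rfl)
  simp only [evF, mul_one] at h
  rw [h]
theorem s16_WWWWF : S pr 1 = S pr 2 * S pr 2 := by
  have h := stepS (p := pr) (i := 1) (w := [0, 0]) (by decide) (by rfl)
  simp only [evF, mul_one] at h
  rw [h]
theorem r_WWWWF : (Rep.z * (Rep.x * (u * (Rep.x⁻¹ * (Rep.z⁻¹ * (W * (W * (W * (W * (F)))))))))) ^ 19 = 1 := by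
  have h := stepS (p := pr) (i := 0) (w := [0, 3, 4]) (by decide) (by rfl)
  simp only [evF, mul_one] at h
  have h1 : S pr 0 = S pr 1 * (S pr 4 * S pr 5) := h
  have h2 : S pr 0 = S pr 25 := snd.1 (0, 25) (by decide)
  rw [h1, one_eq, s16_WWWWF, s8_WWWWF, s4_WWWWF, s2_WWWWF, v_WWWWF] at h2
  simpa only [pow_succ, pow_zero, one_mul, mul_assoc] using h2

end Cfsg.Agent.H315.SpHN.Wc
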