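import Cfsg.Agent.H315.Spr.HNBad
import Cfsg.Agent.H315.Spr.HNWa
import Cfsg.Agent.H315.Spr.HNWb
import Cfsg.Agent.H315.Spr.HNWc
import Cfsg.Agent.H981.Inv.HN
import Cfsg.Agent.KFacts.HN.Classes

/-!
# S3938, row `HN` (helper315, task 5132): the elements of order `2`, `5`, `7`

`u` has order `11`; for every representative `g` there is a word `w` such that `u ^ w · g` has order `19`. The reduction of
the elements of order `5` to eleven representatives is the one of helper981.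
-/

set_option autoImplicit false
set_option maxRecDepth 100000

namespace Cfsg.Agent.H315.SpHN

open Subgroup Cfsg Cfsg.Agent.H839.Rad.Ext Cfsg.Agent.HN Cfsg.Agent.H981.InvHN Cfsg.Agent.H609.TH
open Cfsg.Agent.H839.Rad.HN (W A B C₁ D F τ k ext e_fa1 e_fb1 e_fa2 e_fb2 FW e_taua1 e_taub1 e_taua2 e_taub2 e_tauw
  e_ka1 e_kb1 e_ka2 e_kb2 e_kw F_Q A_eq F_eq e_b25 W_ne e_w5)

theorem u11 : Wa.u ^ 11 = 1 := Cfsg.Agent.H981.InvHN.T4.r_g11

theorem u_ne : Wa.u ≠ 1 := by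
  intro h
  have h1 : (Wa.u * Rep.z) ^ 19 = 1 := by
    have h2 := Cfsg.Agent.H981.InvHN.T4.r_h11
    simpa only [Wa.u, mul_assoc] using h2
  rw [h, one_mul] at h1
  have h2 := orderOf_dvd_of_pow_eq_one h1
  rw [Cfsg.Agent.H981.InvHN.hz] at h2
  exact absurd h2 (by norm_num)

theorem order_u : orderOf Wa.u = 11 := by
  have := f11
  exact orderOf_eq_prime u11 u_ne

/-- the criterion for conjugates of `u` -/
theorem goodI_conj (known : Cfsg.Agent.H257.El.Known.{0}) {g w : Cfsg.Spor.HN} {p : ℕ} (hg : g ^ p = 1) (hp : ¬ 11 ∣ p)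
    (h : (w * Wa.u * w⁻¹ * g) ^ 19 = 1) : GoodI g := by
  have ho : orderOf (w * Wa.u * w⁻¹) = 11 := by
    rw [← order_u]
    exact orderOf_injective (MulAut.conj w).toMonoidHom (MulAut.conj w).injective Wa.u
  have h11 : (w * Wa.u * w⁻¹) ^ 11 = 1 := by rw [← ho]; exact pow_orderOf_eq_one _
  refine goodI_of' known h11 (fun h1 => ?_) h (fun h1 => ?_)
  · rw [h1, orderOf_one] at ho
    omega
  · have h2 : g = (w * Wa.u * w⁻¹)⁻¹ := eq_inv_of_mul_eq_one_right h1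
    have h3 : orderOf g = 11 := by rw [h2, orderOf_inv, ho]
    exact hp (by rw [← h3]; exact orderOf_dvd_of_pow_eq_one hg)

/-- an element of order `5` is good -/
def G5 (x : Spor.HN) : Prop := x ^ 5 = 1 → GoodI x

theorem G5.of_pow {x : Spor.HN} (n : ℕ) (h : G5 (x ^ n)) : G5 x := fun hx =>
  GoodI.of_pow n (h (by rw [← pow_mul, mul_comm, pow_mul, hx, one_pow]))

theorem G5.of_conj {x : Spor.HN} (t : Spor.HN) (h : G5 (t * x * t⁻¹)) : G5 x := fun hx =>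
  GoodI.of_conj t (h (by rw [conj_pow, hx, mul_one, mul_inv_cancel]))

/-- the criterion for conjugates of `u` -/
theorem g5_of (known : Cfsg.Agent.H257.El.Known.{0}) {g w : Cfsg.Spor.HN} (h : (w * Wa.u * w⁻¹ * g) ^ 19 = 1) : G5 g :=
  fun hg => goodI_conj known hg (by norm_num) h

section

variable (known : Cfsg.Agent.H257.El.Known.{0})

include known

theorem g_A : G5 A := g5_of known (w := Rep.z * Rep.x) (by simpa only [mul_inv_rev, mul_assoc] using Wa.r_A)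

theorem g_D : G5 D := g5_of known (w := Rep.x) (by simpa only [mul_inv_rev, mul_assoc] using Wa.r_D)

theorem g_C : G5 C₁ := g5_of known (w := Rep.z) (by
  have h : (Rep.z * (Wa.u * (Rep.z⁻¹ * C₁))) ^ 19 = 1 := Wb.r_C
  simpa only [mul_inv_rev, mul_assoc] using h)

theorem g_BDD : G5 (B * (D * D)) := g5_of known (w := Rep.x⁻¹) (by
  have h : (Rep.x⁻¹ * (Wa.u * (Rep.x * (B * (D * D))))) ^ 19 = 1 := Wb.r_BDD
  simpa only [mul_inv_rev, mul_assoc, inv_inv] using h)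

theorem g_ADD : G5 (A * (D * D)) := g5_of known (w := Rep.z) (by
  have h : (Rep.z * (Wa.u * (Rep.z⁻¹ * (A * (D * D))))) ^ 19 = 1 := Wb.r_ADD
  simpa only [mul_inv_rev, mul_assoc] using h)

theorem g_F : G5 F := g5_of known (w := Rep.y) (by
  have h : (Rep.y * (Wa.u * (Rep.y⁻¹ * F))) ^ 19 = 1 := Wb.r_F
  simpa only [mul_inv_rev, mul_assoc] using h)

theorem g_WF : G5 (W * F) := g5_of known (w := Rep.x * Rep.y) (by
  have h : (Rep.x * (Rep.y * (Wa.u * (Rep.y⁻¹ * (Rep.x⁻¹ * (W * F)))))) ^ 19 = 1 := Wc.r_WF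
  simpa only [mul_inv_rev, mul_assoc] using h)

theorem g_WWF : G5 (W * W * F) := g5_of known (w := Rep.x * Rep.t) (by
  have h : (Rep.x * (Rep.t * (Wa.u * (Rep.t⁻¹ * (Rep.x⁻¹ * (W * (W * F))))))) ^ 19 = 1 := Wc.r_WWF
  simpa only [mul_inv_rev, mul_assoc] using h)

theorem g_WWWF : G5 (W * (W * W) * F) := g5_of known (w := Rep.x⁻¹) (by
  have h : (Rep.x⁻¹ * (Wa.u * (Rep.x * (W * (W * (W * F)))))) ^ 19 = 1 := Wc.r_WWWF
  simpa only [mul_inv_rev, mul_assoc, inv_inv] using h)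

theorem g_WWWWF : G5 (W * (W * (W * W)) * F) := g5_of known (w := Rep.z * Rep.x) (by
  have h : (Rep.z * (Rep.x * (Wa.u * (Rep.x⁻¹ * (Rep.z⁻¹ * (W * (W * (W * (W * F))))))))) ^ 19 = 1 := Wc.r_WWWWF
  simpa only [mul_inv_rev, mul_assoc] using h)

/-- order `7` -/
theorem goodI_7 {g : Cfsg.Spor.HN} (hg : orderOf g = 7) : GoodI g := by
  have h7 : Fact (Nat.Prime 7) := ⟨by norm_num⟩
  have h1 : orderOf (Rep.y * (Rep.z * (Rep.t * (Rep.y⁻¹ * (Rep.t * Rep.z))))) = 7 := by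
    refine orderOf_eq_prime Cfsg.Agent.H981.InvHN.T4.r_g7 fun h => ?_
    have h2 : (Rep.y * (Rep.z * (Rep.t * (Rep.y⁻¹ * (Rep.t * Rep.z)))) * Rep.z) ^ 5 = 1 := by
      simpa only [mul_assoc] using Cfsg.Agent.H981.InvHN.T4.r_h7
    rw [h, one_mul] at h2
    have h3 := orderOf_dvd_of_pow_eq_one h2
    rw [Cfsg.Agent.H981.InvHN.hz] at h3
    exact absurd h3 (by norm_num)
  refine goodI_of_sq (by norm_num) (by rw [card_HN]; norm_num) h1 ?_ g hg
  exact goodI_conj known (w := Rep.x * Rep.t) (p := 7) Cfsg.Agent.H981.InvHN.T4.r_g7 (by norm_num)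
    (by simpa only [mul_inv_rev, mul_assoc] using Wa.r_g7)

/-- order `2` -/
theorem goodI_2 {g : Cfsg.Spor.HN} (hg : orderOf g = 2) : GoodI g := by
  rcases Cfsg.Agent.KFacts.HN.Classes.inv_class hg with h | h
  · obtain ⟨c, hc⟩ := isConj_iff.1 h
    apply GoodI.of_conj c
    rw [hc]
    have h1 : Cfsg.Agent.HN.NormalH.ψ Cfsg.Agent.HN.H0Basic.τ = Rep.x * Rep.x := by
      rw [← Cfsg.Agent.HN.H0Basic.hw_τ, Cfsg.Agent.HN.XWords.V_hw (by decide +kernel)]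
      simp only [Cfsg.Agent.HN.XWords.V_cons, Cfsg.Agent.HN.XWords.V_nil, mul_one]
      rfl
    have h2 : (Rep.x * Rep.x) ^ 2 = 1 := by
      rw [← h1, ← hc, conj_pow, ← hg, pow_orderOf_eq_one, mul_one, mul_inv_cancel]
    rw [h1]
    exact goodI_conj known (w := Rep.t * Rep.z) h2 (by norm_num)
      (by simpa only [mul_inv_rev, mul_assoc] using Wa.r_x2)
  · obtain ⟨c, hc⟩ := isConj_iff.1 h
    apply GoodI.of_conj c
    rw [hc]
    have h1 : Cfsg.Agent.HN.XWords.W0 = Rep.y * (Rep.y * (Rep.y * (Rep.x * Rep.x))) := by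
      simp only [Cfsg.Agent.HN.XWords.W0, Cfsg.Agent.HN.XWords.w0w, Cfsg.Agent.HN.XWords.V_cons,
        Cfsg.Agent.HN.XWords.V_nil, mul_one]
      rfl
    have h2 : (Rep.y * (Rep.y * (Rep.y * (Rep.x * Rep.x)))) ^ 2 = 1 := by
      rw [← h1, ← hc, conj_pow, ← hg, pow_orderOf_eq_one, mul_one, mul_inv_cancel]
    rw [h1]
    exact goodI_conj known (w := Rep.z * Rep.t⁻¹) h2 (by norm_num)
      (by simpa only [mul_inv_rev, mul_assoc, inv_inv] using Wa.r_W0)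

end

/-! ### order `5` -/

section

variable (known : Cfsg.Agent.H257.El.Known.{0})

/-- conjugation -/
theorem step_conj {g : Spor.HN} (hW : g * W = W * g)
    {a0 a1 a2 a3 b0 b1 b2 b3 c0 c1 c2 c3 e0 e1 e2 e3 : ℕ} {a4 b4 c4 e4 : ℤ}
    (hA : g * A = nf W A B C₁ D a0 a1 a2 a3 a4 * g) (hB : g * B = nf W A B C₁ D b0 b1 b2 b3 b4 * g)
    (hC : g * C₁ = nf W A B C₁ D c0 c1 c2 c3 c4 * g) (hD : g * D = nf W A B C₁ D e0 e1 e2 e3 e4 * g) {v : ℕ}
    (h : ∀ m, G5 (nv (en (d0 v * a0 + d1 v * b0 + d2 v * c0 + d3 v * e0) (d0 v * a1 + d1 v * b1 + d2 v * c1 + d3 v * e1)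
      (d0 v * a2 + d1 v * b2 + d2 v * c2 + d3 v * e2) (d0 v * a3 + d1 v * b3 + d2 v * c3 + d3 v * e3)) m)) :
    ∀ m, G5 (nv v m) := by
  intro m
  apply G5.of_conj g
  obtain ⟨m', hm⟩ := conj_nf hW hA hB hC hD (d0 v) (d1 v) (d2 v) (d3 v) m
  rw [nv, hm]
  have h1 := h m'
  rw [← nf_en] at h1
  push_cast at h1
  exact h1

theorem en_congr {a b c d a' b' c' d' : ℕ} (h1 : a = a') (h2 : b = b') (h3 : c = c') (h4 : d = d') :
    en a b c d = en a' b' c' d' := by rw [h1, h2, h3, h4]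

theorem move1 (g v : ℕ) (h : ∀ m, G5 (nv (mv1 g v) m)) : ∀ m, G5 (nv v m) := by
  rcases g with _ | _ | _ | g
  · refine step_conj FW (by exact_mod_cast e_fa1) (by exact_mod_cast e_fb1) (by exact_mod_cast e_fa2)
      (by exact_mod_cast e_fb2) fun m => ?_
    refine Eq.mp ?_ (h m)
    congr 2
    exact en_congr (by ring) (by ring) (by ring) (by ring)
  · refine step_conj e_tauw (by exact_mod_cast e_taua1) (by exact_mod_cast e_taub1) (by exact_mod_cast e_taua2)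
      (by exact_mod_cast e_taub2) fun m => ?_
    refine Eq.mp ?_ (h m)
    congr 2
    exact en_congr (by ring) (by ring) (by ring) (by ring)
  · refine step_conj e_kw (by exact_mod_cast e_ka1) (by exact_mod_cast e_kb1) (by exact_mod_cast e_ka2)
      (by exact_mod_cast e_kb2) fun m => ?_
    refine Eq.mp ?_ (h m)
    congr 2
    exact en_congr (by ring) (by ring) (by ring) (by ring)
  · intro m
    apply G5.of_pow 2
    obtain ⟨e, -, h1⟩ := ext.nf_pow (d0 v) (d1 v) (d2 v) (d3 v) m 2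
    rw [nv, h1]
    have h2 : mv1 (g + 3) v = en (2 * d0 v) (2 * d1 v) (2 * d2 v) (2 * d3 v) := rfl
    have h3 := h (((2 : ℕ) : ℤ) * m - e * ((d0 v : ℤ) * (d1 v : ℤ) + (d2 v : ℤ) * (d3 v : ℤ)))
    rw [h2, ← nf_en] at h3
    push_cast at h3 ⊢
    exact h3

/-- the central part of a normal form can be changed by conjugation -/
theorem rep_all {r0 r1 r2 r3 : ℤ} (s0 s1 s2 s3 : ℤ) (hω : s0 * r1 - r0 * s1 + s2 * r3 - r2 * s3 = 1)
    (h : G5 (nf W A B C₁ D r0 r1 r2 r3 0)) (m : ℤ) : G5 (nf W A B C₁ D r0 r1 r2 r3 m) := by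
  apply G5.of_conj (nf W A B C₁ D (-m * s0) (-m * s1) (-m * s2) (-m * s3) 0)
  rw [ext.nf_mul_comm, mul_assoc (W ^ _), mul_inv_cancel_right]
  have h1 : -m * s0 * r1 - r0 * (-m * s1) + -m * s2 * r3 - r2 * (-m * s3) = -m := by
    linear_combination (-m) * hω
  rw [h1]
  have h2 : W ^ (-m) = nf W A B C₁ D 0 0 0 0 (-m) := by simp [nf]
  rw [h2, ext.nf_mul]
  have h3 : nf W A B C₁ D (0 + r0) (0 + r1) (0 + r2) (0 + r3) (-m + m - r0 * 0 - r2 * 0) =
      nf W A B C₁ D r0 r1 r2 r3 0 := by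
    congr 1 <;> ring
  rw [h3]
  exact h

include known in
theorem goodQ : ∀ v < 625, v ≠ 0 → ∀ m, G5 (nv v m) := by
  intro v hv h0
  refine all_of_rank (P := fun v => ∀ m, G5 (nv v m)) chk1 move1 ?_ _ v (Nat.lt_succ_self _) hv (fun _ => h0)
  intro v hv m
  simp only [List.mem_cons, List.not_mem_nil, or_false] at hv
  rcases hv with rfl | rfl | rfl | rfl | rfl
  · refine rep_all (r0 := ((d0 1 : ℕ) : ℤ)) (r1 := ((d1 1 : ℕ) : ℤ)) (r2 := ((d2 1 : ℕ) : ℤ)) (r3 := ((d3 1 : ℕ) : ℤ))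
      0 (-1) 0 0 (by decide) ?_ m
    have h : nf W A B C₁ D ((d0 1 : ℕ) : ℤ) ((d1 1 : ℕ) : ℤ) ((d2 1 : ℕ) : ℤ) ((d3 1 : ℕ) : ℤ) 0 = A := by
      simp [nf, d0e, d1e, d2e, d3e]
    rw [h]
    exact g_A known
  · refine rep_all (r0 := ((d0 125 : ℕ) : ℤ)) (r1 := ((d1 125 : ℕ) : ℤ)) (r2 := ((d2 125 : ℕ) : ℤ))
      (r3 := ((d3 125 : ℕ) : ℤ)) 0 0 1 0 (by decide) ?_ m
    have h : nf W A B C₁ D ((d0 125 : ℕ) : ℤ) ((d1 125 : ℕ) : ℤ) ((d2 125 : ℕ) : ℤ) ((d3 125 : ℕ) : ℤ) 0 = D := by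
      simp [nf, d0e, d1e, d2e, d3e]
    rw [h]
    exact g_D known
  · refine rep_all (r0 := ((d0 25 : ℕ) : ℤ)) (r1 := ((d1 25 : ℕ) : ℤ)) (r2 := ((d2 25 : ℕ) : ℤ))
      (r3 := ((d3 25 : ℕ) : ℤ)) 0 0 0 (-1) (by decide) ?_ m
    have h : nf W A B C₁ D ((d0 25 : ℕ) : ℤ) ((d1 25 : ℕ) : ℤ) ((d2 25 : ℕ) : ℤ) ((d3 25 : ℕ) : ℤ) 0 = C₁ := by
      simp [nf, d0e, d1e, d2e, d3e]
    rw [h]
    exact g_C known
  · refine rep_all (r0 := ((d0 255 : ℕ) : ℤ)) (r1 := ((d1 255 : ℕ) : ℤ)) (r2 := ((d2 255 : ℕ) : ℤ))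
      (r3 := ((d3 255 : ℕ) : ℤ)) 1 0 0 0 (by decide) ?_ m
    have h : nf W A B C₁ D ((d0 255 : ℕ) : ℤ) ((d1 255 : ℕ) : ℤ) ((d2 255 : ℕ) : ℤ) ((d3 255 : ℕ) : ℤ) 0 =
        B * (D * D) := by
      simp [nf, d0e, d1e, d2e, d3e, pow_two]
    rw [h]
    exact g_BDD known
  · refine rep_all (r0 := ((d0 251 : ℕ) : ℤ)) (r1 := ((d1 251 : ℕ) : ℤ)) (r2 := ((d2 251 : ℕ) : ℤ))
      (r3 := ((d3 251 : ℕ) : ℤ)) 0 (-1) 0 0 (by decide) ?_ m
    have h : nf W A B C₁ D ((d0 251 : ℕ) : ℤ) ((d1 251 : ℕ) : ℤ) ((d2 251 : ℕ) : ℤ) ((d3 251 : ℕ) : ℤ) 0 =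
        A * (D * D) := by
      simp [nf, d0e, d1e, d2e, d3e, pow_two]
    rw [h]
    exact g_ADD known

include known in
theorem goodW : G5 W := by
  have h1 : W = Cfsg.Agent.H839.Rad.HN.G * A * Cfsg.Agent.H839.Rad.HN.G⁻¹ := by rw [A_eq]; group
  apply G5.of_conj Cfsg.Agent.H839.Rad.HN.G⁻¹
  rw [inv_inv, ← A_eq]
  exact g_A known

theorem move2 (g v : ℕ) (h : ∀ m, G5 (nv (mv2 g v) m * F)) : ∀ m, G5 (nv v m * F) := by
  intro m
  have key : ∀ (s : Spor.HN) (a0 a1 a2 a3 a4 s0 s1 s2 s3 : ℤ) (c0 c1 c2 c3 : ℕ),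
      s⁻¹ = nf W A B C₁ D s0 s1 s2 s3 0 → F * s = nf W A B C₁ D a0 a1 a2 a3 a4 * F →
      (5 : ℤ) ∣ s0 + a0 - c0 → (5 : ℤ) ∣ s1 + a1 - c1 → (5 : ℤ) ∣ s2 + a2 - c2 → (5 : ℤ) ∣ s3 + a3 - c3 →
      (∀ m, G5 (nv (en (d0 v + c0) (d1 v + c1) (d2 v + c2) (d3 v + c3)) m * F)) → G5 (nv v m * F) := by
    intro s a0 a1 a2 a3 a4 s0 s1 s2 s3 c0 c1 c2 c3 hs hF h0 h1 h2 h3 hv
    apply G5.of_conj s⁻¹
    obtain ⟨m', hm⟩ := step_F hs hF (d0 v) (d1 v) (d2 v) (d3 v) m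
    rw [nv, hm]
    have h4 := hv m'
    rw [← nf_en] at h4
    rw [nf_mod (i' := ((d0 v + c0 : ℕ) : ℤ)) (j' := ((d1 v + c1 : ℕ) : ℤ)) (u' := ((d2 v + c2 : ℕ) : ℤ))
      (l' := ((d3 v + c3 : ℕ) : ℤ)) (by push_cast; omega) (by push_cast; omega) (by push_cast; omega)
      (by push_cast; omega)]
    exact h4
  rcases g with _ | _ | _ | g
  · exact key A _ _ _ _ _ (-1) 0 0 0 4 0 4 4 (by simp [nf]) e_fa1 (by norm_num) (by norm_num) (by norm_num) (by norm_num)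
      h
  · exact key B _ _ _ _ _ 0 (-1) 0 0 0 0 0 4 (by simp [nf]) e_fb1 (by norm_num) (by norm_num) (by norm_num) (by norm_num)
      h
  · exact key C₁ _ _ _ _ _ 0 0 (-1) 0 4 1 3 4 (by simp [nf]) e_fa2 (by norm_num) (by norm_num) (by norm_num)
      (by norm_num) h
  · exact key D _ _ _ _ _ 0 0 0 (-1) 4 0 4 3 (by simp [nf]) e_fb2 (by norm_num) (by norm_num) (by norm_num) (by norm_num)
      h

/-- the elements of order 25 -/
theorem g5_c {u : ℕ} (h : (C₁ ^ u * F) ^ 5 ≠ 1) (m : ℤ) : G5 (nf W A B C₁ D 0 0 u 0 m * F) := by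
  intro h1
  exfalso
  apply h
  have cF : Commute (W ^ m) F := (show Commute W F from FW.symm).zpow_left m
  have cC : Commute (W ^ m) (C₁ ^ u) := ((show Commute W C₁ from ext.wc).zpow_left m).pow_right u
  have h2 : nf W A B C₁ D 0 0 u 0 m * F = C₁ ^ u * F * W ^ m := by
    simp only [nf, zpow_zero, one_mul, mul_one, zpow_natCast]
    rw [mul_assoc, cF.eq, ← mul_assoc]
  have h3 : Commute (C₁ ^ u * F) (W ^ m) := Commute.mul_left cC.symm cF.symm
  rw [h2, h3.mul_pow] at h1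
  have h4 : (W ^ m) ^ 5 = 1 := by
    rw [← zpow_natCast, ← zpow_mul, mul_comm, zpow_mul, zpow_natCast, e_w5, one_zpow]
  rwa [h4, mul_one] at h1

include known in
theorem goodF : ∀ v < 625, ∀ m, G5 (nv v m * F) := by
  intro v hv
  refine all_of_rank (P := fun v => ∀ m, G5 (nv v m * F)) chk2 move2 ?_ _ v (Nat.lt_succ_self _) hv
    (fun h => absurd h (by decide))
  intro v hv m
  simp only [List.mem_cons, List.not_mem_nil, or_false] at hv
  have hc : ∀ u : ℕ, u < 5 → nv (25 * u) m = nf W A B C₁ D 0 0 u 0 m := by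
    intro u hu
    rw [nv, d0e, d1e, d2e, d3e]
    apply nf_eq <;> omega
  rcases hv with rfl | rfl | rfl | rfl | rfl
  · have h0 : nv 0 m = W ^ m := by simp [nv, nf, d0e, d1e, d2e, d3e]
    rw [h0]
    have h1 : W ^ m = W ^ (m % 5) := zpow_eq e_w5 (by omega)
    rw [h1]
    have h2 : m % 5 = 0 ∨ m % 5 = 1 ∨ m % 5 = 2 ∨ m % 5 = 3 ∨ m % 5 = 4 := by omega
    rcases h2 with h | h | h | h | h <;> rw [h]
    · rw [zpow_zero, one_mul]
      exact g_F known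
    · rw [zpow_one]
      exact g_WF known
    · have h3 : W ^ (2 : ℤ) = W * W := by rw [zpow_ofNat, pow_two]
      rw [h3]
      exact g_WWF known
    · have h3 : W ^ (3 : ℤ) = W * (W * W) := by rw [zpow_ofNat, pow_succ, pow_two, mul_assoc]
      rw [h3]
      exact g_WWWF known
    · have h3 : W ^ (4 : ℤ) = W * (W * (W * W)) := by
        rw [zpow_ofNat, pow_succ, pow_succ, pow_two, mul_assoc, mul_assoc]
      rw [h3]
      exact g_WWWWF known
  · rw [show (25 : ℕ) = 25 * 1 from rfl, hc 1 (by decide)]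
    exact g5_c (by simpa only [pow_one] using T3.r_c1) m
  · rw [show (50 : ℕ) = 25 * 2 from rfl, hc 2 (by decide)]
    exact g5_c (by simpa only [pow_succ, pow_zero, one_mul, mul_assoc] using T3.r_c2) m
  · rw [show (75 : ℕ) = 25 * 3 from rfl, hc 3 (by decide)]
    refine g5_c ?_ m
    have h3 : C₁ ^ 3 * F = C₁ * (C₁ * (C₁ * F)) := by simp only [pow_succ, pow_zero, one_mul, mul_assoc]
    rw [h3]
    exact T3.r_c3
  · rw [show (100 : ℕ) = 25 * 4 from rfl, hc 4 (by decide)]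
    refine g5_c ?_ m
    have h3 : C₁ ^ 4 * F = C₁ * (C₁ * (C₁ * (C₁ * F))) := by simp only [pow_succ, pow_zero, one_mul, mul_assoc]
    rw [h3]
    exact T3.r_c4

include known in
theorem goodI_5 (x : Spor.HN) (hx : orderOf x = 5) : GoodI x := by
  have : Fact (Nat.Prime 5) := ⟨by norm_num⟩
  have hx5 : x ^ 5 = 1 := by rw [← hx]; exact pow_orderOf_eq_one x
  obtain ⟨g, hg⟩ := Cfsg.Agent.H478.RadHeis.exists_conj_mem isPGroup_P index_P hx5
  have hgx5 : (g * x * g⁻¹) ^ 5 = 1 := by rw [conj_pow, hx5, mul_one, mul_inv_cancel]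
  have hgx1 : g * x * g⁻¹ ≠ 1 := by
    intro h
    rw [conj_eq_one_iff] at h
    rw [h, orderOf_one] at hx
    omega
  apply GoodI.of_conj g
  suffices h : G5 (g * x * g⁻¹) from h hgx5
  obtain ⟨q, hq, s, hs⟩ := hg
  rw [hs] at hgx1 ⊢
  by_cases h5 : (5 : ℤ) ∣ s
  · have h1 : F ^ s = 1 := by rw [zpow_eq F5 (i := s) (j := 0) (by simpa using h5), zpow_zero]
    rw [h1, mul_one] at hgx1 ⊢
    obtain ⟨i, j, u, l, m, rfl⟩ := hq
    obtain ⟨v, hv, he⟩ := exists_code i j u l m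
    rw [he] at hgx1 ⊢
    by_cases h0 : v = 0
    · subst h0
      have h2 : nv 0 m = W ^ m := by simp [nv, nf, d0e, d1e, d2e, d3e]
      rw [h2] at hgx1 ⊢
      have h3 : ¬ (5 : ℤ) ∣ m := fun h => hgx1 (by rw [zpow_eq e_w5 (i := m) (j := 0) (by simpa using h), zpow_zero])
      obtain ⟨t, ht⟩ : ∃ t : ℕ, (5 : ℤ) ∣ m * t - 1 := by
        have h4 : m % 5 = 1 ∨ m % 5 = 2 ∨ m % 5 = 3 ∨ m % 5 = 4 := by omega
        rcases h4 with h | h | h | h
        · exact ⟨1, by push_cast; omega⟩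
        · exact ⟨3, by push_cast; omega⟩
        · exact ⟨2, by push_cast; omega⟩
        · exact ⟨4, by push_cast; omega⟩
      apply G5.of_pow t
      rw [← zpow_natCast, ← zpow_mul, zpow_eq e_w5 (j := 1) ht, zpow_one]
      exact goodW known
    · exact goodQ known v hv h0 m
  · obtain ⟨t, ht⟩ : ∃ t : ℕ, (5 : ℤ) ∣ s * t - 1 := by
      have h4 : s % 5 = 1 ∨ s % 5 = 2 ∨ s % 5 = 3 ∨ s % 5 = 4 := by omega
      rcases h4 with h | h | h | h
      · exact ⟨1, by push_cast; omega⟩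
      · exact ⟨3, by push_cast; omega⟩
      · exact ⟨2, by push_cast; omega⟩
      · exact ⟨4, by push_cast; omega⟩
    apply G5.of_pow t
    obtain ⟨q', hq', he⟩ := pow_form hq s t
    rw [he, zpow_eq F5 (i := s * t) (j := 1) ht, zpow_one]
    obtain ⟨i, j, u, l, m, rfl⟩ := hq'
    obtain ⟨v, hv, he⟩ := exists_code i j u l m
    rw [he]
    exact goodF known v hv m


include known in
/-- all the primes but `3` -/
theorem goodI_prime (h3 : ∀ g : Spor.HN, orderOf g = 3 → GoodI g) (g : Spor.HN) (hg : (orderOf g).Prime) : GoodI g := by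
  rcases Nat.lt_or_ge (orderOf g) 5 with h5 | h5
  · have h1 := hg.two_le
    have h2 : orderOf g = 2 ∨ orderOf g = 3 ∨ orderOf g = 4 := by omega
    rcases h2 with h | h | h
    · exact goodI_2 known h
    · exact h3 g h
    · rw [h] at hg
      exact absurd hg (by norm_num)
  · rcases Cfsg.Agent.H981.InvHN.prime_cases hg h5 (by rw [← card_HN]; exact orderOf_dvd_natCard g) with h | h | h | h
    · exact goodI_5 known g h
    · exact goodI_7 known h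
    · exact goodI_11 known h
    · exact goodI_19 known h

end

end Cfsg.Agent.H315.SpHN
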