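import Cfsg.Agent.H285.Ccp.HNRel
import Cfsg.Agent.H981.Inv.HNCodes

/-!
# Programs in the elements of the Sylow 3-subgroup of the Harada-Norton group (helper315, for S3938, row `HN`)

`pre` : the first 23 steps of the program of helper285; `S3 p i`: the results of a program.
-/

set_option autoImplicit false
set_option maxRecDepth 100000

namespace Cfsg.Agent.H315.SpHN.T3

open Cfsg.Agent.Lib.PackMat Cfsg.Agent.Lib.PackMatGroup Cfsg.Agent.Lib.PackMatMul Cfsg.Agent.HN.RepData
open Cfsg.Agent.HN.Rep (L LG gens rho)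
open Cfsg.Agent.HN Cfsg.Agent.H285.HN3
open Cfsg.Agent.HN.A12Step (L20)
open Cfsg.Agent.H981.InvHN (runG_append)

/-- the first steps of the program -/
def pre : List (ℕ × List ℕ) := [
  (20, [21]),
  (9, [9]),
  (11, [11]),
  (10, [10]),
  (0, [12, 1, 11]),
  (9, [9]),
  (12, [12]),
  (1, [12, 0, 11]),
  (9, [9]),
  (12, [12]),
  (1, [12, 0, 11]),
  (6, [3, 0]),
  (7, [4]),
  (8, [8, 5]),
  (4, [20, 11, 17]),
  (17, [17]),
  (0, [21, 14, 18]),
  (8, [21, 13, 18]),
  (3, [1, 0]),
  (19, [19]),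
  (29, [28, 27, 25, 18, 14, 27, 13, 29, 0]),
  (29, [17, 29, 26, 15, 26, 23, 12, 23, 1]),
  (19, [28, 2, 23, 30, 44, 44, 46, 44, 44, 42, 48, 46, 44, 44, 28, 2, 23, 20])]

/-- results of a program in the presented group -/
noncomputable def S3 (p : List (ℕ × List ℕ)) (i : ℕ) : Cfsg.Spor.HN := (runG p gens').getD i 1

theorem rho_S3 (p : List (ℕ × List ℕ)) (i : ℕ) : rho (S3 p i) = (runG p LG').getD i 1 := by
  unfold S3
  rw [← gens'_map, runG_map, List.getD_eq_getElem?_getD, List.getD_eq_getElem?_getD, List.getElem?_map]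
  cases (runG p gens')[i]? with
  | none => simp
  | some b => simp

theorem sound3 {p : List (ℕ × List ℕ)} {es ns : List (ℕ × ℕ)} (hc : checkS C p es ns L20 = true)
    (hr : ∀ q ∈ es ++ ns, q.1 < p.length + L20.length ∧ q.2 < p.length + L20.length) :
    (∀ q ∈ es, S3 p q.1 = S3 p q.2) ∧ (∀ q ∈ ns, S3 p q.1 ≠ S3 p q.2) := by
  have h := checkS_sound (good_of_check Rep.good) A12.results hc hr
  constructor
  · intro q hq
    have := Cfsg.Agent.S1701.result.1
    apply A12Group.rho_injective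
    rw [rho_S3, rho_S3]
    exact h.1 q hq
  · intro q hq h1
    refine h.2 q hq ?_
    change (runG p LG').getD q.1 1 = (runG p LG').getD q.2 1
    rw [← rho_S3, ← rho_S3, h1]

theorem step3 {p : List (ℕ × List ℕ)} {i : ℕ} {w : List ℕ} (hi : i < p.length)
    (hw : ((p.reverse.getD i (0, [])).1 :: (p.reverse.getD i (0, [])).2) = w) :
    S3 p i = evF (fun m => S3 p (i + 1 + m)) w := by
  rw [← hw]
  exact runG_step p gens' i hi

/-- the old results -/
theorem pre3 (q : List (ℕ × List ℕ)) (j : ℕ) : S3 (pre ++ q) (q.length + j) = R (62 + j) := by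
  unfold S3 R
  have h1 : prog = pre ++ prog.drop 23 := by rfl
  have h4 : (prog.drop 23).length = 62 := rfl
  rw [runG_append, runG_getD]
  conv_rhs => rw [h1, runG_append, ← h4, runG_getD]

end Cfsg.Agent.H315.SpHN.T3
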