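import Cfsg.Agent.H609.TH.Frat
import Cfsg.Agent.OrdDiv.Table
import Cfsg.Agent.H555.TwoSp.CoThreeSeven
import Cfsg.Agent.H537.CopSC
import Cfsg.Agent.H123.SporSimple

/-!
# S3938, row `Co3` (helper315, task 5122)

`r = 23`, `s` of order `23`. The simple groups at the top are `L2(23)`, `M24` (excluded: the elements of order `11` of `Co3`
are not real, `|N(11)| = 110`, `|C(11)| = 22`) and `M23`; there is at most one `M23` over `s`: it contains the normaliser
`23 : 11` of `⟨s⟩`, and the elements of order `5` in the normaliser of a subgroup of order `11` of it.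
-/

set_option autoImplicit false

namespace Cfsg.Agent.H315.Spr.Co3

open Subgroup Cfsg Cfsg.Agent.OrdDiv Cfsg.Agent.H257.El Cfsg.Agent.H609.TH Cfsg.Agent.H424.Spr

/-- the factorization -/
def lC : List (ℕ × ℕ) := [(2, 10), (3, 7), (5, 3), (7, 1), (11, 1), (23, 1)]

theorem surv_eq : surv 495766656000 lC 23 [] = [Grp.psl 2 23, Grp.m23, Grp.m24] := by decide +kernel

theorem chk : chkN 495766656000 lC 23 = true := by decide +kernel

theorem ok : okAll lC 23 = true := by decide +kernel

section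

variable {T : Type} [Group T] [Finite T]

theorem centralizer_zpowers {G : Type*} [Group G] (y : G) :
    centralizer ((zpowers y : Subgroup G) : Set G) = centralizer ({y} : Set G) := by
  ext x
  rw [mem_centralizer_singleton_iff, mem_centralizer_iff]
  constructor
  · intro h
    exact (h y (mem_zpowers y)).symm
  · rintro h _ ⟨k, rfl⟩
    exact ((show Commute y x from h.symm).zpow_left k).eq

theorem sc23 (h : Spor.IsoCo3 T) : Cfsg.Agent.H537.Cop.SC 23 T := by
  intro y hy
  have h1 := Cfsg.Agent.H555.TwoSp.c23 h (zpowers y) (by rw [Nat.card_zpowers, hy])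
  rwa [centralizer_zpowers] at h1

theorem cent11 (h : Spor.IsoCo3 T) {y : T} (hy : orderOf y = 11) : Nat.card (centralizer ({y} : Set T)) = 22 := by
  have h1 := Cfsg.Agent.H555.TwoSp.c11 h (zpowers y) (by rw [Nat.card_zpowers, hy])
  rwa [centralizer_zpowers] at h1

theorem norm11 (h : Spor.IsoCo3 T) {y : T} (hy : orderOf y = 11) :
    Nat.card (normalizer ((zpowers y : Subgroup T) : Set T)) = 110 :=
  Cfsg.Agent.H555.TwoSp.n11 h (zpowers y) (by rw [Nat.card_zpowers, hy])

/-- the fifth powers of the elements of `N(⟨y⟩)` centralise `y` -/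
theorem pow_five (h : Spor.IsoCo3 T) {y t : T} (hy : orderOf y = 11)
    (ht : t ∈ normalizer ((zpowers y : Subgroup T) : Set T)) : t ^ 5 ∈ centralizer ({y} : Set T) := by
  set N := normalizer ((zpowers y : Subgroup T) : Set T) with hN
  set C := centralizer ((zpowers y : Subgroup T) : Set T) with hC
  have hCN : C ≤ N := by
    rw [hC, hN]
    exact centralizer_le_normalizer _
  have hn : (C.subgroupOf N).Normal := by
    rw [hC, hN]
    infer_instance
  have h1 : (C.subgroupOf N).index = 5 := by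
    have h2 := Subgroup.card_mul_index (C.subgroupOf N)
    have h3 : Nat.card (C.subgroupOf N) = 22 := by
      rw [Nat.card_congr (subgroupOfEquivOfLe hCN).toEquiv, hC, centralizer_zpowers, cent11 h hy]
    have h4 : Nat.card N = 110 := norm11 h hy
    rw [h3, h4] at h2
    omega
  have h3 := (C.subgroupOf N).pow_index_mem ⟨t, ht⟩
  rw [h1, mem_subgroupOf] at h3
  rw [← centralizer_zpowers]
  exact h3

/-- an involution normalising `⟨y⟩` centralises `y` -/
theorem comm_of_sq (h : Spor.IsoCo3 T) {y t : T} (hy : orderOf y = 11)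
    (ht : t ∈ normalizer ((zpowers y : Subgroup T) : Set T)) (h2 : t ^ 2 ∈ centralizer ({y} : Set T)) :
    t ∈ centralizer ({y} : Set T) := by
  have h5 := pow_five h hy ht
  have h1 : t = t ^ 5 * (t ^ 2)⁻¹ * (t ^ 2)⁻¹ := by group
  rw [h1]
  exact mul_mem (mul_mem h5 (inv_mem h2)) (inv_mem h2)

/-- the elements of order eleven are not real -/
theorem not_real (h : Spor.IsoCo3 T) {y t : T} (hy : orderOf y = 11) (ht : t * y * t⁻¹ = y⁻¹) : False := by
  have h1 : t ∈ normalizer ((zpowers y : Subgroup T) : Set T) := by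
    have h6 : (zpowers y).map (MulAut.conj t).toMonoidHom = zpowers y := by
      refine eq_of_le_of_card_ge ?_ (by rw [card_map_of_injective (MulAut.conj t).injective])
      rw [MonoidHom.map_zpowers, zpowers_le]
      change t * y * t⁻¹ ∈ zpowers y
      rw [ht]
      exact inv_mem (mem_zpowers y)
    rw [mem_normalizer_iff]
    intro z
    constructor
    · intro hz
      rw [← h6]
      exact ⟨z, hz, rfl⟩
    · intro hz
      rw [← h6] at hz
      obtain ⟨w, hw, hwz⟩ := hz
      have : w = z := (MulAut.conj t).injective hwz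
      rwa [← this]
  have h2 : t ^ 2 ∈ centralizer ({y} : Set T) := by
    rw [mem_centralizer_singleton_iff]
    have h3 : t * y = y⁻¹ * t := by rw [← ht]; group
    have h4 : t * y⁻¹ = y * t := by
      have h5 : (t * y * t⁻¹)⁻¹ = y := by rw [ht, inv_inv]
      calc t * y⁻¹ = (t * y * t⁻¹)⁻¹ * t := by group
        _ = y * t := by rw [h5]
    calc t ^ 2 * y = t * (t * y) := by rw [pow_two, mul_assoc]
      _ = t * y⁻¹ * t := by rw [h3, mul_assoc]
      _ = y * t ^ 2 := by rw [h4, pow_two, mul_assoc]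
  have h3 := mem_centralizer_singleton_iff.1 (comm_of_sq h hy h1 h2)
  have h4 : y = y⁻¹ := by
    rw [← ht, h3]
    group
  have h5 : y ^ 2 = 1 := by
    rw [pow_two]
    nth_rewrite 2 [h4]
    exact mul_inv_cancel y
  have h6 := orderOf_dvd_of_pow_eq_one h5
  rw [hy] at h6
  exact absurd h6 (by norm_num)

omit [Finite T] in
/-- the normaliser of `⟨y⟩` in a subgroup -/
theorem card_norm_sub (G : Subgroup T) {y : T} (hy : y ∈ G) :
    Nat.card (normalizer ((zpowers y : Subgroup T) : Set T) ⊓ G : Subgroup T) =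
      Nat.card (normalizer ((zpowers (⟨y, hy⟩ : G) : Subgroup G) : Set G)) := by
  have h1 : zpowers y ≤ G := by rwa [zpowers_le]
  have h2 : (zpowers y).subgroupOf G = zpowers (⟨y, hy⟩ : G) := by
    ext z
    rw [mem_subgroupOf, mem_zpowers_iff, mem_zpowers_iff]
    constructor
    · rintro ⟨k, hk⟩
      exact ⟨k, Subtype.ext hk⟩
    · rintro ⟨k, hk⟩
      exact ⟨k, congrArg Subtype.val hk⟩
  rw [← h2, ← subgroupOf_normalizer_eq h1, ← inf_subgroupOf_right]
  exact (Nat.card_congr (subgroupOfEquivOfLe inf_le_right).toEquiv).symm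

/-- no subgroup `M24` -/
theorem not_m24 (h : Spor.IsoCo3 T) (N : Subgroup T) (hN : Spor.IsoM24 N) : False := by
  have hcard : Nat.card N = 244823040 := Cfsg.Agent.NotCT.Orders.m24 hN
  have hsc := Cfsg.Agent.H537.Cop.m24_11 hN
  have h11 : Fact (Nat.Prime 11) := ⟨by norm_num⟩
  obtain ⟨y, hy⟩ := exists_prime_orderOf_dvd_card' (G := N) 11 (by rw [hcard]; norm_num)
  have hX : Nat.card (zpowers y) = 11 := by rw [Nat.card_zpowers, hy]
  obtain ⟨n, k, hn, hk, h1, h2⟩ := Cfsg.Agent.H836.Sylow.card_normalizer (G := N) (p := 11) (by norm_num)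
    (by rw [hcard]; norm_num) hX
  rw [centralizer_zpowers, hsc y hy] at h1 h2
  rw [hcard] at h1
  have hk' : k ∣ 10 := hk
  have hk2 : k ≤ 10 := Nat.le_of_dvd (by norm_num) hk'
  have hk3 : k = 10 := by
    interval_cases k <;> omega
  subst hk3
  -- an involution
  have h2' : Fact (Nat.Prime 2) := ⟨Nat.prime_two⟩
  obtain ⟨t, ht⟩ := exists_prime_orderOf_dvd_card'
    (G := normalizer ((zpowers y : Subgroup N) : Set N)) 2 (by rw [h2]; norm_num)
  have hyT : orderOf (y : T) = 11 := by rw [Subgroup.orderOf_coe, hy]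
  have htN : ((t : N) : T) ∈ normalizer ((zpowers (y : T) : Subgroup T) : Set T) := by
    have h1 : zpowers (y : T) ≤ N := by
      rw [zpowers_le]
      exact y.2
    have h3 : (zpowers (y : T)).subgroupOf N = zpowers y := by
      ext z
      rw [mem_subgroupOf, mem_zpowers_iff, mem_zpowers_iff]
      constructor
      · rintro ⟨k, hk⟩
        exact ⟨k, Subtype.ext hk⟩
      · rintro ⟨k, hk⟩
        exact ⟨k, congrArg Subtype.val hk⟩
    have h4 : (t : N) ∈ normalizer (((zpowers (y : T)).subgroupOf N : Subgroup N) : Set N) := by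
      rw [h3]
      exact t.2
    rw [← subgroupOf_normalizer_eq h1, mem_subgroupOf] at h4
    exact h4
  have ht2 : ((t : N) : T) ^ 2 = 1 := by
    have h5 : t ^ 2 = 1 := by rw [← ht]; exact pow_orderOf_eq_one t
    have h6 := congrArg (fun z : normalizer ((zpowers y : Subgroup N) : Set N) => ((z : N) : T)) h5
    exact h6
  have h7 := comm_of_sq h hyT htN (by rw [ht2]; exact one_mem _)
  have h8 : (t : N) ∈ centralizer ({y} : Set N) := by
    rw [mem_centralizer_singleton_iff] at h7 ⊢
    exact Subtype.ext h7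
  have h9 := orderOf_dvd_natCard (⟨t, h8⟩ : centralizer ({y} : Set N))
  rw [hsc y hy, Subgroup.orderOf_mk, Subgroup.orderOf_coe, ht] at h9
  exact absurd h9 (by norm_num)

/-- the normaliser of a subgroup of order eleven in `M23` -/
theorem norm_m23 (h : Spor.IsoCo3 T) (N : Subgroup T) (hN : Nat.card N = 10200960) {y : T} (hy : orderOf y = 11)
    (hyN : y ∈ N) : Nat.card (normalizer ((zpowers y : Subgroup T) : Set T) ⊓ N : Subgroup T) = 55 := by
  rw [card_norm_sub N hyN]
  have hy' : orderOf (⟨y, hyN⟩ : N) = 11 := by rw [Subgroup.orderOf_mk, hy]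
  obtain ⟨n, k, hn, hk, h1, h2⟩ := Cfsg.Agent.H836.Sylow.card_normalizer (G := N) (p := 11) (by norm_num)
    (by rw [hN]; norm_num) (X := zpowers (⟨y, hyN⟩ : N)) (by rw [Nat.card_zpowers, hy'])
  rw [h2]
  rw [centralizer_zpowers] at h1 ⊢
  -- the centralizer
  have h3 : 11 ∣ Nat.card (centralizer ({(⟨y, hyN⟩ : N)} : Set N)) := by
    have h4 := orderOf_dvd_natCard (⟨⟨y, hyN⟩, mem_centralizer_singleton_iff.2 rfl⟩ :
      centralizer ({(⟨y, hyN⟩ : N)} : Set N))
    rwa [Subgroup.orderOf_mk, hy'] at h4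
  have h4 : Nat.card (centralizer ({(⟨y, hyN⟩ : N)} : Set N)) ∣ 22 := by
    rw [← cent11 h hy]
    have h5 : (centralizer ({(⟨y, hyN⟩ : N)} : Set N)).map N.subtype ≤ centralizer ({y} : Set T) := by
      rintro _ ⟨z, hz, rfl⟩
      rw [SetLike.mem_coe, mem_centralizer_singleton_iff] at hz
      rw [mem_centralizer_singleton_iff]
      exact congrArg Subtype.val hz
    have h6 := card_dvd_of_le h5
    rwa [card_map_of_injective N.subtype_injective] at h6
  rw [hN] at h1
  generalize Nat.card (centralizer ({(⟨y, hyN⟩ : N)} : Set N)) = c at h1 h3 h4 ⊢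
  obtain ⟨d, rfl⟩ := h3
  have hd : d ∣ 2 := Nat.dvd_of_mul_dvd_mul_left (by norm_num : 0 < 11) h4
  have hd2 : d ≤ 2 := Nat.le_of_dvd (by norm_num) hd
  have hk' : k ∣ 10 := hk
  have hk2 : k ≤ 10 := Nat.le_of_dvd (by norm_num) hk'
  interval_cases d
  · omega
  · interval_cases k <;> omega
  · interval_cases k <;> omega

/-- the simple groups at the top are `M23` -/
theorem top_m23 (h : Spor.IsoCo3 T) {s : T} (hs : orderOf s = 23) {K N : Subgroup T}
    (hN : IsTop T 495766656000 lC 23 s K N) : Nat.card N = 10200960 := by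
  obtain ⟨g, hg, hgr, hgc⟩ := hN.real
  rw [surv_eq] at hg
  simp only [List.mem_cons, List.not_mem_nil, or_false] at hg
  rcases hg with rfl | rfl | rfl
  · exfalso
    obtain ⟨F, i1, i2, hF, ⟨e⟩⟩ := hgr
    have hN2 : ¬ 23 ^ 2 ∣ Nat.card N := by
      intro h1
      have h2 := h1.trans (card_subgroup_dvd_card N)
      rw [Cfsg.Agent.NotCT.Orders.co3 h] at h2
      exact absurd h2 (by norm_num)
    obtain ⟨a, t, ha, -, hat, -⟩ := LTwo.exists_data (F := F) (p := 23) (by norm_num) (by norm_num) hF e hN2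
      (s := ⟨s, hN.mem⟩) (by rw [Subgroup.orderOf_mk, hs])
    refine not_real h (y := (a : T)) (t := (t : T)) (by rw [Subgroup.orderOf_coe, ha]) ?_
    exact congrArg Subtype.val hat
  · rw [hgc]
    rfl
  · exact absurd hgr (not_m24 h N)

omit [Finite T] in
/-- elements of order five of a subgroup with index two -/
theorem mem_of_order_five {A N' : Subgroup T} (hA : Nat.card A = 110) (hE : Nat.card (A ⊓ N' : Subgroup T) = 55)
    {z : T} (hz : orderOf z = 5) (hzA : z ∈ A) : z ∈ N' := by
  have hle : A ⊓ N' ≤ A := inf_le_left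
  have hidx : ((A ⊓ N').subgroupOf A).index = 2 := by
    have h3 := Subgroup.card_mul_index ((A ⊓ N').subgroupOf A)
    rw [Nat.card_congr (subgroupOfEquivOfLe hle).toEquiv, hE, hA] at h3
    omega
  have hn := Subgroup.normal_of_index_eq_two hidx
  have h3 := ((A ⊓ N').subgroupOf A).pow_index_mem ⟨z, hzA⟩
  rw [hidx, mem_subgroupOf] at h3
  have h4 : z ^ 2 ∈ N' := h3.2
  have h6 : z = (z ^ 2) ^ 3 := by
    have h7 : z ^ 5 = 1 := by rw [← hz]; exact pow_orderOf_eq_one z
    calc z = z ^ 5 * z := by rw [h7, one_mul]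
      _ = (z ^ 2) ^ 3 := by group
  rw [h6]
  exact pow_mem h4 3

/-- **The row `Co3`.** -/
theorem spr_co3 (known : Cfsg.Agent.H257.El.Known.{0}) {T : Type} [Group T] [Finite T] (h : Spor.IsoCo3 T) :
    Spr T := by
  have hcard : Nat.card T = 495766656000 := Cfsg.Agent.NotCT.Orders.co3 h
  have hsim : IsSimpleGroup T := Cfsg.Agent.H123.SporSimple.spor_simple (by simp [IsSporadicGroup, h])
  have hna : ∃ x y : T, x * y ≠ y * x := exists_not_comm hcard (by norm_num)
  obtain ⟨hv, -, hrn, h2, hne⟩ := of_chkN chk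
  have hr : Nat.Prime 23 := by norm_num
  have hsc := sc23 h
  have hfree : Free 23 T := free_of_sc hcard hv hr hsc ok
  obtain ⟨s, hs⟩ := exists_of_order (T := T) hr (by rw [hcard]; exact hrn)
  refine spr_of_uniq hna (uniq_of_unique table known hcard hv hr h2 hne hfree hs
    fun K N K' N' hK hK' hN hN' => ?_)
  have hcN := top_m23 h hs hN
  have hcN' := top_m23 h hs hN'
  -- the normaliser of `⟨s⟩`
  have hB : normalizer ((zpowers s : Subgroup T) : Set T) ≤ N :=
    hN.norm_le hr (by rw [hcard]; exact h2) (by rw [hcard]; exact hne) hsc hs (by rw [hcN, hcard])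
  have hB' : normalizer ((zpowers s : Subgroup T) : Set T) ≤ N' :=
    hN'.norm_le hr (by rw [hcard]; exact h2) (by rw [hcard]; exact hne) hsc hs (by rw [hcN', hcard])
  have hBc : Nat.card (normalizer ((zpowers s : Subgroup T) : Set T)) = 23 * 11 :=
    Cfsg.Agent.H555.TwoSp.n23 h _ (by rw [Nat.card_zpowers, hs])
  -- an element of order eleven
  have h11 : Fact (Nat.Prime 11) := ⟨by norm_num⟩
  obtain ⟨y, hy⟩ := exists_prime_orderOf_dvd_card'
    (G := normalizer ((zpowers s : Subgroup T) : Set T)) 11 (by rw [hBc]; norm_num)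
  have hyT : orderOf (y : T) = 11 := by rw [Subgroup.orderOf_coe, hy]
  have hE := norm_m23 h N hcN hyT (hB y.2)
  have hE' := norm_m23 h N' hcN' hyT (hB' y.2)
  -- an element of order five
  have h5 : Fact (Nat.Prime 5) := ⟨by norm_num⟩
  obtain ⟨z, hz⟩ := exists_prime_orderOf_dvd_card'
    (G := (normalizer ((zpowers (y : T) : Subgroup T) : Set T) ⊓ N : Subgroup T)) 5 (by rw [hE]; norm_num)
  have hzT : orderOf (z : T) = 5 := by rw [Subgroup.orderOf_coe, hz]
  have hzN' : (z : T) ∈ N' := mem_of_order_five (norm11 h hyT) hE' hzT z.2.1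
  -- the intersection
  have hKne : N ⊓ N' ≠ ⊤ := fun h1 => hK (top_le_iff.1 (by rw [← h1]; exact inf_le_left.trans hN.le))
  rcases cases table known hcard hv hr h2 hfree hs hKne ⟨hN.mem, hN'.mem⟩ with h1 | ⟨N'', hN''⟩
  · exfalso
    have h3 := h1 (⟨z.2.2, hzN'⟩ : (z : T) ∈ N ⊓ N')
    have h4 := orderOf_dvd_natCard (⟨(z : T), h3⟩ : normalizer ((zpowers s : Subgroup T) : Set T))
    rw [Subgroup.orderOf_mk, hzT, hBc] at h4
    exact absurd h4 (by norm_num)
  · have hcN'' := top_m23 h hs hN''
    have h3 : N'' = N := eq_of_le_of_card_ge (hN''.le.trans inf_le_left) (by rw [hcN, hcN''])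
    have h4 : N'' = N' := eq_of_le_of_card_ge (hN''.le.trans inf_le_right) (by rw [hcN', hcN''])
    rw [← h3, h4]

end

end Cfsg.Agent.H315.Spr.Co3
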