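import Cfsg.Agent.H315.Spr.HNFin
import Cfsg.Agent.H546.SH.Outer

/-!
# S3938, row `HN` (helper315, helper546, task 5132)
-/

set_option autoImplicit false

namespace Cfsg.Agent.H315.Spr

open Cfsg

/-- **The row `HN`.** -/
theorem spr_hn (known : Cfsg.Agent.H257.El.Known.{0}) {T : Type} [Group T] [Finite T] (h : Spor.IsoHN T) :
    Cfsg.Agent.H424.Spr.Spr T :=
  Cfsg.Agent.H315.SpHN.spr_of_outer known (Cfsg.Agent.H546.SH.hn_outer known) h

end Cfsg.Agent.H315.Spr
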